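import Groth.Agent.Curves2.Ufd.AffinePts
import Groth.Agent.Mero90.Triv
import Groth.Agent.ParaF26.Sections
import Mathlib.RingTheory.Ideal.MinimalPrime.Noetherian

/-!
# Affine neighbourhoods of isolated points of the complement with stalk of dimension at most one
-/

set_option autoImplicit false
set_option linter.style.haveILetI false

universe u

open CategoryTheory AlgebraicGeometry TopologicalSpace IsLocalRing
open Groth.Agent.Var76.LineBundle

noncomputable section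

namespace Groth.Agent.Curves2.Glue

variable {X : Scheme.{u}}

/-- Spreading out: if `G` contains the generizations of `x` inside `D(a)` then it contains
`D(c) ∩ D(a)` for a basic neighbourhood `D(c)` of `x`. -/
theorem exists_basicOpen_inter_le {W : X.Opens} (hW : IsAffineOpen W) {x : X} (hx : x ∈ W)
    (a : Γ(X, W)) (G : X.Opens) (h : ∀ y, y ⤳ x → y ∈ X.basicOpen a → y ∈ G) :
    ∃ c : Γ(X, W), x ∈ X.basicOpen c ∧ X.basicOpen c ⊓ X.basicOpen a ≤ G := by
  set p := hW.primeIdealOf ⟨x, hx⟩ with hp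
  obtain ⟨I, hI⟩ := (PrimeSpectrum.isClosed_iff_zeroLocus_ideal _).1
    ((hW.fromSpec ⁻¹ᵁ G).2.isClosed_compl)
  have hmem : ∀ q : PrimeSpectrum Γ(X, W), hW.fromSpec q ∈ G ↔ ¬ I ≤ q.asIdeal := fun q => by
    have h1 : (¬ hW.fromSpec q ∈ G) ↔ I ≤ q.asIdeal := Set.ext_iff.1 hI q
    exact not_iff_comm.1 h1 |>.symm
  have hbasic : ∀ (q : PrimeSpectrum Γ(X, W)) (b : Γ(X, W)),
      hW.fromSpec q ∈ X.basicOpen b ↔ b ∉ q.asIdeal := fun q b =>
    Iff.of_eq (congrArg (q ∈ ·) (hW.fromSpec_preimage_basicOpen b))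
  have hnd : ¬ Disjoint (I : Set Γ(X, W)) (Submonoid.powers a ⊔ p.asIdeal.primeCompl : Submonoid _) := by
    intro hd
    obtain ⟨q, hq, hIq, hqd⟩ := Ideal.exists_le_prime_disjoint _ _ hd
    have haq : a ∉ q := fun ha => Set.disjoint_left.1 hqd ha
      ((le_sup_left : _ ≤ Submonoid.powers a ⊔ p.asIdeal.primeCompl) (Submonoid.mem_powers a))
    have hqp : q ≤ p.asIdeal := fun b hb => by
      by_contra hbp
      exact Set.disjoint_left.1 hqd hb
        ((le_sup_right : _ ≤ Submonoid.powers a ⊔ p.asIdeal.primeCompl) hbp)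
    have hsp : hW.fromSpec ⟨q, hq⟩ ⤳ x := by
      have h1 := ((PrimeSpectrum.le_iff_specializes ⟨q, hq⟩ p).1 hqp).map hW.fromSpec.continuous
      rwa [hp, hW.fromSpec_primeIdealOf] at h1
    exact (hmem ⟨q, hq⟩).1 (h _ hsp ((hbasic _ a).2 haq)) hIq
  obtain ⟨m, hmI, hm⟩ := Set.not_disjoint_iff.1 hnd
  obtain ⟨b, hb, c, hc, rfl⟩ := Submonoid.mem_sup.1 hm
  obtain ⟨n, rfl⟩ := hb
  refine ⟨c, ?_, ?_⟩
  · have h1 := (hbasic p c).2 hc
    rwa [hp, hW.fromSpec_primeIdealOf] at h1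
  · rintro y ⟨hyc, hya⟩
    obtain ⟨q, rfl⟩ : y ∈ Set.range hW.fromSpec := hW.range_fromSpec.ge (X.basicOpen_le c hyc)
    refine (hmem q).2 fun hIq => ?_
    rcases q.2.mem_or_mem (hIq hmI) with h1 | h1
    · exact (hbasic q a).1 hya (q.2.mem_of_pow_mem n h1)
    · exact (hbasic q c).1 hyc h1

/-- An isolated point of the complement of a retrocompact open, with Noetherian stalk of dimension
at most one, has an affine neighbourhood in which `U` is a basic open. -/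
theorem exists_nhd_basicOpen (U : X.Opens) [QuasiCompact U.ι]
    (hdisc : DiscreteTopology ↥((U : Set X)ᶜ)) {x : X} (hxU : x ∉ U)
    (hN : IsNoetherianRing (X.presheaf.stalk x)) (hd : ringKrullDim (X.presheaf.stalk x) ≤ 1) :
    ∃ (W : X.Opens), IsAffineOpen W ∧ x ∈ W ∧ (∀ y ∈ W, y ∉ U → y = x) ∧
      ∃ t : Γ(X, W), X.basicOpen t = W ⊓ U := by
  classical
  obtain ⟨O, hO, hOx⟩ := isOpen_induced_iff.1 (isOpen_discrete ({⟨x, hxU⟩} : Set ↥((U : Set X)ᶜ)))
  have hxO : x ∈ O := by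
    have h1 : (⟨x, hxU⟩ : ↥((U : Set X)ᶜ)) ∈ Subtype.val ⁻¹' O := by rw [hOx]; exact rfl
    exact h1
  obtain ⟨W, hW, hxW, hWO⟩ := exists_isAffineOpen_mem_and_subset (U := ⟨O, hO⟩) hxO
  have hWx : ∀ y ∈ W, y ∉ U → y = x := fun y hy hyU => by
    have h1 : (⟨y, hyU⟩ : ↥((U : Set X)ᶜ)) ∈ Subtype.val ⁻¹' O := hWO hy
    rw [hOx] at h1
    exact congrArg Subtype.val h1
  have : Ring.KrullDimLE 1 (X.presheaf.stalk x) := Ring.krullDimLE_iff.mpr hd
  let S := (minimalPrimes.finite_of_isNoetherianRing (X.presheaf.stalk x)).toFinset.erase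
    (maximalIdeal (X.presheaf.stalk x))
  obtain ⟨t₀, ht₀, ht₀S⟩ : ∃ t₀ ∈ maximalIdeal (X.presheaf.stalk x), ∀ q ∈ S, t₀ ∉ q := by
    have h1 : ¬ ((maximalIdeal (X.presheaf.stalk x) : Set (X.presheaf.stalk x)) ⊆
        ⋃ q ∈ (S : Set (Ideal (X.presheaf.stalk x))), (q : Set (X.presheaf.stalk x))) := by
      rw [Ideal.subset_union_prime (f := fun q => q) ⊥ ⊥ fun q hq _ _ =>
        ((Set.Finite.mem_toFinset _).1 (Finset.mem_of_mem_erase hq)).1.1]
      rintro ⟨q, hq, hmq⟩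
      have hqP : q.IsPrime := ((Set.Finite.mem_toFinset _).1 (Finset.mem_of_mem_erase hq)).1.1
      exact Finset.ne_of_mem_erase hq
        (((maximalIdeal.isMaximal _).eq_of_le hqP.ne_top hmq).symm)
    obtain ⟨t₀, ht₀, ht₁⟩ := Set.not_subset.1 h1
    exact ⟨t₀, ht₀, fun q hq h2 => ht₁ (Set.mem_biUnion (Finset.mem_coe.2 hq) h2)⟩
  have hmax : ∀ q : PrimeSpectrum (X.presheaf.stalk x), t₀ ∈ q.asIdeal →
      q = closedPoint (X.presheaf.stalk x) := by
    intro q hq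
    refine PrimeSpectrum.ext ?_
    by_contra hne
    rcases Ring.krullDimLE_one_iff.1 this q.asIdeal q.2 with h1 | h1
    · exact ht₀S _ (Finset.mem_erase.2 ⟨hne, (Set.Finite.mem_toFinset _).2 h1⟩) hq
    · exact hne (IsLocalRing.eq_maximalIdeal h1)
  let : Algebra Γ(X, W) (X.presheaf.stalk x) :=
    TopCat.Presheaf.algebra_section_stalk X.presheaf ⟨x, hxW⟩
  have := hW.isLocalization_stalk ⟨x, hxW⟩
  obtain ⟨⟨t, b⟩, htb⟩ := IsLocalization.surj (hW.primeIdealOf ⟨x, hxW⟩).asIdeal.primeCompl t₀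
  have hb : IsUnit (X.presheaf.germ W x hxW b) := IsLocalization.map_units (X.presheaf.stalk x) b
  change t₀ * X.presheaf.germ W x hxW b = X.presheaf.germ W x hxW t at htb
  have hxt : x ∉ X.basicOpen t := fun h1 => by
    rw [X.mem_basicOpen t x hxW, ← htb] at h1
    exact (IsLocalRing.mem_maximalIdeal _).1 ht₀ (isUnit_of_mul_isUnit_left h1)
  have hgen : ∀ y, y ⤳ x → y ≠ x → y ∈ X.basicOpen t := by
    intro y hy hne
    have hyW : y ∈ W := hy.mem_open W.2 hxW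
    obtain ⟨q, rfl⟩ : y ∈ Set.range (X.fromSpecStalk x) := by rw [Scheme.range_fromSpecStalk]; exact hy
    by_contra hyt
    refine hne ?_
    rw [hmax q ?_, Scheme.fromSpecStalk_closedPoint]
    have h1 : X.presheaf.germ W x hxW t ∈ q.asIdeal := by
      rw [← Ufd.comap_maximalIdeal_stalkSpecializes q hy, Ideal.mem_comap,
        TopCat.Presheaf.germ_stalkSpecializes_apply, IsLocalRing.mem_maximalIdeal, mem_nonunits_iff]
      exact fun h2 => hyt ((X.mem_basicOpen t _ hyW).2 h2)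
    rw [← htb] at h1
    exact (q.2.mem_or_mem h1).resolve_right fun h2 =>
      q.2.ne_top (Ideal.eq_top_of_isUnit_mem _ h2 hb)
  let V : X.Opens := W ⊓ U
  have hV : IsCompact (V : Set X) := by
    have h1 := U.ι.isCompact_preimage hW.isCompact
    have h2 := h1.image U.ι.continuous
    rwa [show U.ι '' (U.ι ⁻¹ᵁ W : Set U) = U.ι '' (U.ι ⁻¹' (W : Set X)) from rfl,
      Set.image_preimage_eq_inter_range, Scheme.Opens.range_ι] at h2
  have hloc : ∀ y : V, ∃ g : Γ(X, W), X.basicOpen g ≤ V ∧ y.1 ∈ X.basicOpen g := fun y =>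
    hW.exists_basicOpen_le y y.2.1
  choose g hgV hyg using hloc
  obtain ⟨F, hF⟩ := hV.elim_finite_subcover (fun y : V => (X.basicOpen (g y) : Set X))
    (fun y => (X.basicOpen (g y)).2) fun y hy => Set.mem_iUnion.2 ⟨⟨y, hy⟩, hyg ⟨y, hy⟩⟩
  choose c hxc hc using fun y : V => exists_basicOpen_inter_le hW hxW (g y) (X.basicOpen t)
    fun z hz hzg => hgen z hz fun hzx => hxU (hzx ▸ (hgV y hzg).2)
  have hxC : x ∈ X.basicOpen (∏ y ∈ F, c y) := by
    rw [X.mem_basicOpen _ x hxW, map_prod, IsUnit.prod_iff]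
    exact fun y _ => (X.mem_basicOpen _ x hxW).1 (hxc y)
  have hle : X.basicOpen (∏ y ∈ F, c y) ≤ W := X.basicOpen_le _
  refine ⟨_, hW.basicOpen _, hxC, fun y hy hyU => hWx y (hle hy) hyU,
    X.presheaf.map (homOfLE hle).op t, le_antisymm (fun y hy => ?_) fun y hy => ?_⟩
  · rw [Scheme.basicOpen_res] at hy
    refine ⟨hy.1, ?_⟩
    by_contra hyU
    exact hxt (hWx y (hle hy.1) hyU ▸ hy.2)
  · rw [Scheme.basicOpen_res]
    refine ⟨hy.1, ?_⟩
    obtain ⟨z, hz, hyz⟩ := Set.mem_iUnion₂.1 (hF (show y ∈ V from ⟨hle hy.1, hy.2⟩))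
    refine hc z ⟨?_, hyz⟩
    have h1 := (X.mem_basicOpen _ y (hle hy.1)).1 hy.1
    rw [map_prod, IsUnit.prod_iff] at h1
    exact (X.mem_basicOpen _ y (hle hy.1)).2 (h1 z hz)

/-- A section generating the germ at `y` generates near `y`. -/
theorem exists_frame_of_isGen {Y : Scheme.{u}} {N : Y.Modules} (hN : PicF.IsInvertible N)
    {W : Y.Opens} (m : Γ(N, W)) {y : Y} (hy : y ∈ W) (h : Mero90.IsGen (N.presheaf.germ W y hy m)) :
    ∃ (V : Y.Opens) (hV : V ≤ W), y ∈ V ∧ IsFrame N V (res N hV m) := by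
  obtain ⟨U, hyU, e, he⟩ := Mero90.exists_frame' hN y
  obtain ⟨f, hf⟩ := (he (U ⊓ W) inf_le_left).2 (res N inf_le_right m)
  dsimp only at hf
  have h1 := congrArg (N.presheaf.germ (U ⊓ W) y ⟨hyU, hy⟩) hf
  rw [Mero.germ_smul, TopCat.Presheaf.germ_res_apply, TopCat.Presheaf.germ_res_apply] at h1
  obtain ⟨a, ha⟩ := h.2 (N.presheaf.germ U y hyU e)
  dsimp only at ha
  rw [← h1, smul_smul] at ha
  have h2 : a * Y.presheaf.germ (U ⊓ W) y ⟨hyU, hy⟩ f = 1 :=
    (Mero90.isGen_germ he ⟨y, hyU⟩).1 (ha.trans (one_smul _ _).symm)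
  have hu : IsUnit (Y.presheaf.germ (U ⊓ W) y ⟨hyU, hy⟩ f) := IsUnit.of_mul_eq_one_right a h2
  refine ⟨Y.basicOpen f, (Y.basicOpen_le f).trans inf_le_right, (Y.mem_basicOpen f y _).2 hu, ?_⟩
  have h3 := congrArg (res N (Y.basicOpen_le f)) hf
  rw [res_smul, res_res, res_res] at h3
  rw [← h3, Amp73.isFrame_smul_iff (he.res ((Y.basicOpen_le f).trans inf_le_left))]
  exact RingedSpace.isUnit_res_basicOpen Y.toRingedSpace f

/-- Near an isolated point of the complement an invertible module on `U` has a generator. -/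
theorem exists_nhd_frame (U : X.Opens) [QuasiCompact U.ι]
    (hdisc : DiscreteTopology ↥((U : Set X)ᶜ)) {x : X} (hxU : x ∉ U)
    (hN : IsNoetherianRing (X.presheaf.stalk x)) (hd : ringKrullDim (X.presheaf.stalk x) ≤ 1)
    (N : (U : Scheme.{u}).Modules) (hNi : PicF.IsInvertible N) :
    ∃ (W : X.Opens), x ∈ W ∧ (∀ y ∈ W, y ∉ U → y = x) ∧
      ∃ e : Γ((Scheme.Modules.pushforward U.ι).obj N, W ⊓ U),
        IsFrame ((Scheme.Modules.pushforward U.ι).obj N) (W ⊓ U) e := by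
  classical
  obtain ⟨W, hW, hxW, hWx, t, ht⟩ := exists_nhd_basicOpen U hdisc hxU hN hd
  have hV : IsAffineOpen (U.ι ⁻¹ᵁ X.basicOpen t) :=
    (hW.basicOpen t).preimage_of_isOpenImmersion U.ι
      (by rw [Scheme.Opens.opensRange_ι, ht]; exact inf_le_right)
  have : Ring.KrullDimLE 1 (X.presheaf.stalk x) := Ring.krullDimLE_iff.mpr hd
  have hfin : Finite (PrimeSpectrum (X.presheaf.stalk x)) := by
    have h1 : {I : Ideal (X.presheaf.stalk x) | I.IsPrime}.Finite := by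
      refine ((minimalPrimes.finite_of_isNoetherianRing (X.presheaf.stalk x)).insert
        (maximalIdeal (X.presheaf.stalk x))).subset fun I hI => ?_
      rcases Ring.krullDimLE_one_iff.1 this I hI with h2 | h2
      · exact Or.inr h2
      · exact Or.inl (IsLocalRing.eq_maximalIdeal h2)
    haveI : Finite {I : Ideal (X.presheaf.stalk x) // I.IsPrime} := h1.to_subtype
    exact Finite.of_equiv _ (PrimeSpectrum.equivSubtype (X.presheaf.stalk x)).symm.toEquiv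
  have hfin2 : {y : (U.ι ⁻¹ᵁ X.basicOpen t : Set U) | (y.1.1 : X) ⤳ x}.Finite := by
    haveI : Finite (Spec (X.presheaf.stalk x)) := hfin
    refine Set.Finite.of_finite_image ((Set.finite_range (X.fromSpecStalk x)).subset ?_)
      ((Subtype.val_injective.comp Subtype.val_injective).injOn (f := fun y => (y.1.1 : X)))
    rintro _ ⟨y, hy, rfl⟩
    exact Scheme.range_fromSpecStalk.ge hy
  obtain ⟨m, hm⟩ := Mero90.exists_gen_finite hNi hV hfin2.toFinset
  choose V hVle hyV hVf using fun (y : ↥(U.ι ⁻¹ᵁ X.basicOpen t)) (hy : (y.1.1 : X) ⤳ x) =>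
    exists_frame_of_isGen hNi m y.2 (hm y (hfin2.mem_toFinset.2 hy))
  let V₀ : (U : Scheme.{u}).Opens := ⨆ (y) (hy), V y hy
  have hV₀le : V₀ ≤ U.ι ⁻¹ᵁ X.basicOpen t := iSup₂_le hVle
  have hV₀ : IsFrame N V₀ (res N hV₀le m) := by
    refine Amp73.isFrame_of_locally _ fun z hz => ?_
    obtain ⟨y, hy⟩ := Opens.mem_iSup.1 hz
    obtain ⟨hy', hzy⟩ := Opens.mem_iSup.1 hy
    exact ⟨V y hy', le_iSup₂ (f := V) y hy', hzy, by rw [res_res]; exact hVf y hy'⟩
  obtain ⟨c, hxc, hc⟩ := exists_basicOpen_inter_le hW hxW t (U.ι ''ᵁ V₀) fun y hy hyt => by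
    have hyU : y ∈ U := (ht.le hyt).2
    exact ⟨⟨y, hyU⟩, Opens.mem_iSup.2 ⟨⟨⟨y, hyU⟩, hyt⟩, Opens.mem_iSup.2 ⟨hy, hyV _ hy⟩⟩, rfl⟩
  have hle : X.basicOpen c ⊓ U ≤ U.ι ''ᵁ V₀ := fun y hy =>
    hc ⟨hy.1, ht.ge ⟨X.basicOpen_le c hy.1, hy.2⟩⟩
  have hle' : U.ι ⁻¹ᵁ (X.basicOpen c ⊓ U) ≤ V₀ :=
    (U.ι.preimage_mono hle).trans (U.ι.preimage_image_eq V₀).le
  refine ⟨X.basicOpen c, hxc, fun y hy hyU => hWx y (X.basicOpen_le c hy) hyU,
    res N (hle'.trans hV₀le) m, ParaF26.isFrame_push U.ι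
      (fun W' hW' => ParaF26.bijective_app_of_le U.ι
        (hW'.trans (inf_le_right.trans (Scheme.Opens.opensRange_ι U).ge))) ?_⟩
  have h := hV₀.res hle'
  rwa [res_res] at h

end Groth.Agent.Curves2.Glue
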