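import Groth.Agent.Curves2.Glue.Discrete
import Groth.Agent.Amp73.PullTensor
import Groth.Agent.Amp73.Local
import Groth.Agent.Mero90.Triv
import Groth.Agent.Curves2.Glue.Isolated
import Mathlib.AlgebraicGeometry.Morphisms.QuasiFinite

/-!
# Descending invertible modules along finite morphisms which are simple off a discrete set
-/

set_option autoImplicit false
set_option linter.style.haveILetI false
set_option backward.isDefEq.respectTransparency false

universe u w

open CategoryTheory CategoryTheory.Limits AlgebraicGeometry TopologicalSpace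
open Groth.Agent.Var76.LineBundle

noncomputable section

namespace Groth.Agent.Curves2.Glue

variable {X : Scheme.{u}}

theorem app_add'' {M N : X.Modules} (φ : M ⟶ N) {V : X.Opens} (s t : Γ(M, V)) :
    φ.app V (s + t) = φ.app V s + φ.app V t := map_add _ _ _

theorem res_zero'' (M : X.Modules) {U V : X.Opens} (h : V ≤ U) : res M h 0 = 0 := map_zero _

/-- Invertible modules with frames having the same transition functions are isomorphic. -/
theorem nonempty_iso_of_frames {A B : X.Modules} {κ : Type w} (U : κ → X.Opens)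
    (hU : ∀ x, ∃ i, x ∈ U i) (a : ∀ i, Γ(A, U i)) (b : ∀ i, Γ(B, U i))
    (ha : ∀ i, IsFrame A (U i) (a i)) (hb : ∀ i, IsFrame B (U i) (b i))
    (hab : ∀ i j (c : Γ(X, U i ⊓ U j)), c • res A inf_le_right (a j) = res A inf_le_left (a i) →
      c • res B inf_le_right (b j) = res B inf_le_left (b i)) :
    Nonempty (A ≅ B) := by
  let p : A ⊞ B ⟶ A := biprod.fst
  let q : A ⊞ B ⟶ B := biprod.snd
  have hinlA : ∀ {V : X.Opens} (s : Γ(A, V)), p.app V ((biprod.inl : A ⟶ A ⊞ B).app V s) = s := fun s =>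
    congrArg (fun φ : A ⟶ A => φ.app _ s) biprod.inl_fst
  have hinrB : ∀ {V : X.Opens} (s : Γ(B, V)), q.app V ((biprod.inr : B ⟶ A ⊞ B).app V s) = s := fun s =>
    congrArg (fun φ : B ⟶ B => φ.app _ s) biprod.inr_snd
  have hinlB : ∀ {V : X.Opens} (s : Γ(A, V)), q.app V ((biprod.inl : A ⟶ A ⊞ B).app V s) = 0 := fun s =>
    congrArg (fun φ : A ⟶ B => φ.app _ s) biprod.inl_snd
  have hinrA : ∀ {V : X.Opens} (s : Γ(B, V)), p.app V ((biprod.inr : B ⟶ A ⊞ B).app V s) = 0 := fun s =>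
    congrArg (fun φ : B ⟶ A => φ.app _ s) biprod.inr_fst
  have hext : ∀ {V : X.Opens} (s t : Γ(A ⊞ B, V)), p.app V s = p.app V t → q.app V s = q.app V t → s = t := by
    intro V s t h1 h2
    have tot : ∀ r : Γ(A ⊞ B, V), (biprod.inl : A ⟶ A ⊞ B).app V (p.app V r) +
        (biprod.inr : B ⟶ A ⊞ B).app V (q.app V r) = r := fun r =>
      congrArg (fun φ : A ⊞ B ⟶ A ⊞ B => φ.app V r) biprod.total
    rw [← tot s, h1, h2, tot t]
  let G : QC70.LocalSubmod (A ⊞ B) :=
    { obj := fun V =>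
        { carrier := {s | ∀ i (c : Γ(X, V ⊓ U i)), c • res A inf_le_right (a i) = res A inf_le_left (p.app V s) →
            c • res B inf_le_right (b i) = res B inf_le_left (q.app V s)}
          zero_mem' := fun i c hc => by
            rw [map_zero, res_zero''] at hc
            rw [map_zero, res_zero'']
            have h0 : c = 0 := (ha i _ inf_le_right).1 (hc.trans (zero_smul Γ(X, V ⊓ U i) _).symm)
            rw [h0, zero_smul]
          add_mem' := fun {s t} hs ht i c hc => by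
            obtain ⟨c₁, hc₁⟩ := (ha i (V ⊓ U i) inf_le_right).2 (res A inf_le_left (p.app V s))
            obtain ⟨c₂, hc₂⟩ := (ha i (V ⊓ U i) inf_le_right).2 (res A inf_le_left (p.app V t))
            dsimp only at hc₁ hc₂
            have h0 : c = c₁ + c₂ := (ha i _ inf_le_right).1 (by
              dsimp only
              rw [add_smul, hc₁, hc₂, hc, map_add, Amp73.res_add])
            rw [h0, add_smul, hs i c₁ hc₁, ht i c₂ hc₂, map_add, Amp73.res_add]
          smul_mem' := fun r s hs i c hc => by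
            obtain ⟨c₁, hc₁⟩ := (ha i (V ⊓ U i) inf_le_right).2 (res A inf_le_left (p.app V s))
            dsimp only at hc₁
            have h0 : c = X.presheaf.map (homOfLE (inf_le_left : V ⊓ U i ≤ V)).op r * c₁ :=
              (ha i _ inf_le_right).1 (by
                dsimp only
                rw [mul_smul, hc₁, hc, Scheme.Modules.Hom.app_smul, res_smul])
            rw [h0, mul_smul, hs i c₁ hc₁, Scheme.Modules.Hom.app_smul, res_smul] }
      res_mem := fun {V V'} h s hs i c hc => by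
        obtain ⟨c₁, hc₁⟩ := (ha i (V ⊓ U i) inf_le_right).2 (res A inf_le_left (p.app V s))
        dsimp only at hc₁
        change c • _ = res A _ (p.app V' (res (A ⊞ B) h s)) at hc
        show c • _ = res B _ (q.app V' (res (A ⊞ B) h s))
        have hle : V' ⊓ U i ≤ V ⊓ U i := inf_le_inf_right _ h
        have e₁ := congrArg (res A hle) hc₁
        have e₂ := congrArg (res B hle) (hs i c₁ hc₁)
        simp only [res_smul, res_res] at e₁ e₂
        rw [Mero90.app_res, res_res] at hc ⊢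
        have h0 := (ha i _ inf_le_right).1 (hc.trans e₁.symm)
        rw [h0]
        exact e₂
      of_locally := fun {V} s hs i c hc => Var76.ZeroScheme.eq_of_locally B _ _ fun y hy => by
        obtain ⟨V', hle, hyV', hmem⟩ := hs y hy.1
        refine ⟨V' ⊓ U i, inf_le_inf_right _ hle, ⟨hyV', hy.2⟩, ?_⟩
        have e₁ := congrArg (res A (inf_le_inf_right (U i) hle)) hc
        have h1 := hmem i (X.presheaf.map (homOfLE (inf_le_inf_right (U i) hle)).op c)
        change _ • _ = res A _ (p.app V' (res (A ⊞ B) hle s)) →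
          _ • _ = res B _ (q.app V' (res (A ⊞ B) hle s)) at h1
        simp only [res_smul, res_res, Mero90.app_res] at e₁ h1 ⊢
        exact h1 e₁ }
  let g : ∀ i, Γ(A ⊞ B, U i) := fun i =>
    (biprod.inl : A ⟶ A ⊞ B).app (U i) (a i) + (biprod.inr : B ⟶ A ⊞ B).app (U i) (b i)
  have hga : ∀ i, p.app (U i) (g i) = a i := fun i => by rw [map_add, hinlA, hinrA, add_zero]
  have hgb : ∀ i, q.app (U i) (g i) = b i := fun i => by rw [map_add, hinlB, hinrB, zero_add]
  have hg : ∀ i, g i ∈ G.obj (U i) := fun i j c hc => by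
    rw [hga] at hc; rw [hgb]; exact hab i j c hc
  have hGfr : ∀ i, IsFrame G.mod (U i) (⟨g i, hg i⟩ : G.obj (U i)) := fun i V hV => by
    refine ⟨fun c c' h => (ha i V hV).1 ?_, fun s => ?_⟩
    · have h1 : p.app V (c • res (A ⊞ B) hV (g i)) = p.app V (c' • res (A ⊞ B) hV (g i)) :=
        congrArg (fun z => p.app V z) (congrArg Subtype.val h)
      simpa only [Scheme.Modules.Hom.app_smul, Mero90.app_res, hga] using h1
    · let s₀ := (show G.obj V from s).1
      obtain ⟨c, hc⟩ := (ha i V hV).2 (p.app V s₀)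
      dsimp only at hc
      refine ⟨c, Subtype.ext (hext _ _ ?_ ?_)⟩
      · show p.app V (c • res (A ⊞ B) hV (g i)) = p.app V s₀
        rw [Scheme.Modules.Hom.app_smul, Mero90.app_res, hga, hc]
      · show q.app V (c • res (A ⊞ B) hV (g i)) = q.app V s₀
        rw [Scheme.Modules.Hom.app_smul, Mero90.app_res, hgb]
        have h1 := (show G.obj V from s).2 i (X.presheaf.map (homOfLE (inf_le_left : V ⊓ U i ≤ V)).op c)
        have e₁ := congrArg (res A (inf_le_left : V ⊓ U i ≤ V)) hc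
        simp only [res_smul, res_res] at e₁
        have h2 := congrArg (res B (le_inf le_rfl hV : V ≤ V ⊓ U i)) (h1 e₁)
        simp only [res_smul, res_res, map_map_fn, map_self_fn, Amp73.res_self] at h2
        exact h2
  have i1 : IsIso (G.ι ≫ p) := by
    refine Amp73.isIso_of_frames _ fun x => ?_
    obtain ⟨i, hi⟩ := hU x
    refine ⟨U i, _, hi, hGfr i, ?_⟩
    rw [show (G.ι ≫ p).app (U i) (⟨g i, hg i⟩ : G.obj (U i)) = a i from hga i]
    exact ha i
  have i2 : IsIso (G.ι ≫ q) := by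
    refine Amp73.isIso_of_frames _ fun x => ?_
    obtain ⟨i, hi⟩ := hU x
    refine ⟨U i, _, hi, hGfr i, ?_⟩
    rw [show (G.ι ≫ q).app (U i) (⟨g i, hg i⟩ : G.obj (U i)) = b i from hgb i]
    exact hb i
  exact ⟨(asIso (G.ι ≫ p)).symm ≪≫ asIso (G.ι ≫ q)⟩

variable {Y : Scheme.{u}} (f : X ⟶ Y)

/-- Pullback of a module given by frames. -/
theorem nonempty_pullback_iso_of_frames {N : Y.Modules} (hN : PicF.IsInvertible N) {L : X.Modules}
    {κ : Type w} (O : κ → Y.Opens) (hO : ∀ y, ∃ i, y ∈ O i) (n : ∀ i, Γ(N, O i))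
    (hn : ∀ i, IsFrame N (O i) (n i)) (l : ∀ i, Γ(L, f ⁻¹ᵁ O i))
    (hl : ∀ i, IsFrame L (f ⁻¹ᵁ O i) (l i))
    (htr : ∀ i j (c : Γ(Y, O i ⊓ O j)), c • res N inf_le_right (n j) = res N inf_le_left (n i) →
      f.app (O i ⊓ O j) c • res L (f.preimage_mono inf_le_right) (l j) =
        res L (f.preimage_mono inf_le_left) (l i)) :
    Nonempty ((Scheme.Modules.pullback f).obj N ≅ L) := by
  refine nonempty_iso_of_frames (fun i => f ⁻¹ᵁ O i) (fun x => hO (f x))
    (fun i => Amp73.pullS f N (O i) (n i)) l (fun i => Amp73.isFrame_pullS f hN (hn i)) hl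
    fun i j c hc => ?_
  obtain ⟨c₀, hc₀⟩ := (hn j (O i ⊓ O j) inf_le_right).2 (res N inf_le_left (n i))
  dsimp only at hc₀
  have e₁ := congrArg (Amp73.pullS f N (O i ⊓ O j)) hc₀
  rw [Amp73.pullS_smul, ← Amp73.res_pullS, ← Amp73.res_pullS] at e₁
  have hc' : c = f.app (O i ⊓ O j) c₀ :=
    ((Amp73.isFrame_pullS f hN (hn j)) _ (f.preimage_mono inf_le_right)).1 (hc.trans e₁.symm)
  rw [hc']
  exact htr i j c₀ hc₀

/-- Descent from an open part and frames near the complement. -/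
theorem exists_descent (L : X.Modules) (U : Y.Opens) (M : Y.Modules)
    (hM : ∀ y ∈ U, ∃ O : Y.Opens, O ≤ U ∧ y ∈ O ∧ ∃ p : Γ(M, O), IsFrame M O p)
    (θ : ∀ O : Y.Opens, O ≤ U → Γ(M, O) → Γ(L, f ⁻¹ᵁ O))
    (θres : ∀ (O O' : Y.Opens) (hO : O ≤ U) (hO' : O' ≤ U) (h : O' ≤ O) (m : Γ(M, O)),
      θ O' hO' (res M h m) = res L (f.preimage_mono h) (θ O hO m))
    (θsmul : ∀ (O : Y.Opens) (hO : O ≤ U) (c : Γ(Y, O)) (m : Γ(M, O)),
      θ O hO (c • m) = f.app O c • θ O hO m)
    (θframe : ∀ (O : Y.Opens) (hO : O ≤ U) (m : Γ(M, O)), IsFrame M O m →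
      IsFrame L (f ⁻¹ᵁ O) (θ O hO m))
    {ι : Type u} (W : ι → Y.Opens) (hdisj : ∀ i j, i ≠ j → W i ⊓ W j ≤ U)
    (hcov : ∀ y, y ∈ U ∨ ∃ i, y ∈ W i) (m : ∀ i, Γ(M, W i ⊓ U))
    (hm : ∀ i, IsFrame M (W i ⊓ U) (m i)) (l : ∀ i, Γ(L, f ⁻¹ᵁ W i))
    (hl : ∀ i, IsFrame L (f ⁻¹ᵁ W i) (l i))
    (hml : ∀ i, θ (W i ⊓ U) inf_le_right (m i) = res L (f.preimage_mono inf_le_left) (l i)) :
    ∃ N : Y.Modules, PicF.IsInvertible N ∧ Nonempty ((Scheme.Modules.pullback f).obj N ≅ L) := by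
  have hI : ∀ O : Y.Opens, U.ι ''ᵁ (U.ι ⁻¹ᵁ O) = O ⊓ U := fun O => by
    rw [Scheme.Hom.image_preimage_eq_opensRange_inf, Scheme.Opens.opensRange_ι, inf_comm]
  let P := (Scheme.Modules.pushforward U.ι).obj (M.restrict U.ι)
  have hP : ∀ O : Y.Opens, Function.Bijective (res P (inf_le_left : O ⊓ U ≤ O)) := fun O =>
    ParaF26.closed_pushforward U.ι _ ⊤
      (by rw [Scheme.Opens.opensRange_ι]; exact inf_le_right) O le_top
  let inP : ∀ O : Y.Opens, Γ(M, O ⊓ U) → Γ(P, O) := fun O s =>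
    (show Γ(M, U.ι ''ᵁ (U.ι ⁻¹ᵁ O)) from res M (hI O).le s)
  let outP : ∀ O : Y.Opens, Γ(P, O) → Γ(M, O ⊓ U) := fun O s =>
    res M (hI O).ge (show Γ(M, U.ι ''ᵁ (U.ι ⁻¹ᵁ O)) from s)
  have hoi : ∀ O s, outP O (inP O s) = s := fun O s =>
    (res_res M _ _ _).trans (Amp73.res_self _ _)
  have outP_res : ∀ {O O' : Y.Opens} (h : O' ≤ O) (s : Γ(P, O)),
      outP O' (res P h s) = res M (inf_le_inf_right U h) (outP O s) := fun {O O'} h s => by
    show res M _ (res M (U.ι.image_mono (U.ι.preimage_mono h)) (show Γ(M, U.ι ''ᵁ (U.ι ⁻¹ᵁ O)) from s)) = _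
    rw [res_res, res_res]
  have outP_smul : ∀ (O : Y.Opens) (c : Γ(Y, O)) (s : Γ(P, O)),
      outP O (c • s) = Y.presheaf.map (homOfLE (inf_le_left : O ⊓ U ≤ O)).op c • outP O s := fun O c s => by
    show res M _ ((U.ι.appIso (U.ι ⁻¹ᵁ O)).inv (U.ι.app O c) • (show Γ(M, U.ι ''ᵁ (U.ι ⁻¹ᵁ O)) from s)) = _
    rw [res_smul]
    refine congrArg (· • _) ?_
    have h := ConcreteCategory.congr_hom (Scheme.Hom.app_appIso_inv U.ι O) c
    rw [ConcreteCategory.comp_apply] at h
    rw [h]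
    exact map_map_fn (A := O) (B := U.ι ''ᵁ (U.ι ⁻¹ᵁ O)) ((hI O).le.trans inf_le_left) (hI O).ge c
  have inP_frame : ∀ (O : Y.Opens) (s : Γ(M, O ⊓ U)), IsFrame M (O ⊓ U) s →
      IsFrame P (O ⊓ U) (res P inf_le_left (inP O s)) := fun O s hs => by
    have h1 : IsFrame (M.restrict U.ι) (U.ι ⁻¹ᵁ O) (inP O s) :=
      (Amp73.isFrame_restrict_iff U.ι M _ _).2 (hs.res (hI O).le)
    exact ParaF26.isFrame_push U.ι (fun W' hW' => ParaF26.bijective_app_of_le U.ι
      (hW'.trans (inf_le_right.trans (Scheme.Opens.opensRange_ι U).ge)))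
      (h1.res (U.ι.preimage_mono inf_le_left))
  let e : ∀ i, Γ(P, W i) := fun i => inP (W i) (m i)
  have he : ∀ i, IsFrame P (W i ⊓ U) (res P inf_le_left (e i)) := fun i => inP_frame _ _ (hm i)
  have hPf : ∀ y ∈ U, ∃ U₀ : Y.Opens, U₀ ≤ U ∧ y ∈ U₀ ∧ ∃ p : Γ(P, U₀), IsFrame P U₀ p := fun y hy => by
    obtain ⟨O, hO, hyO, p, hp⟩ := hM y hy
    exact ⟨O ⊓ U, inf_le_right, ⟨hyO, hy⟩, _, inP_frame O (res M inf_le_left p) (hp.res inf_le_left)⟩
  have hinv := isInvertible_glued e hdisj hcov hP hPf he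
  choose O hO hyO p hp using fun y : U => hPf y.1 y.2
  choose q hq using fun y : U => (bijective_proj e he (hO y)).2 (p y)
  choose gI hgI hgIe _ using fun i => exists_gen e hdisj hP he i
  have hqf : ∀ y : U, IsFrame (glued e U).mod (O y) (q y) := fun y V hV => by
    refine (Function.Bijective.of_comp_iff' (bijective_proj e he (hV.trans (hO y))) _).1 ?_
    have e1 : ((proj e U).app V) ∘ (fun a : Γ(Y, V) => a • res (glued e U).mod hV (q y)) =
        fun a : Γ(Y, V) => a • res P hV (p y) := by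
      funext a
      rw [Function.comp_apply, Scheme.Modules.Hom.app_smul, Mero90.app_res, hq]
    rw [e1]
    exact hp y V hV
  -- the map to `L` on opens inside `U`
  let Θ : ∀ V : Y.Opens, V ≤ U → Γ((glued e U).mod, V) → Γ(L, f ⁻¹ᵁ V) := fun V hV s =>
    θ V hV (res M (le_inf le_rfl hV) (outP V ((proj e U).app V s)))
  have Θres : ∀ {V V' : Y.Opens} (hV : V ≤ U) (h : V' ≤ V) (s : Γ((glued e U).mod, V)),
      Θ V' (h.trans hV) (res _ h s) = res L (f.preimage_mono h) (Θ V hV s) := fun {V V'} hV h s => by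
    show θ _ _ (res M _ (outP V' ((proj e U).app V' (res (glued e U).mod h s)))) = _
    rw [Mero90.app_res, outP_res, res_res, ← θres V V' hV (h.trans hV) h]
    simp only [outP, res_res]
  have Θsmul : ∀ {V : Y.Opens} (hV : V ≤ U) (c : Γ(Y, V)) (s : Γ((glued e U).mod, V)),
      Θ V hV (c • s) = f.app V c • Θ V hV s := fun {V} hV c s => by
    show θ _ _ (res M _ (outP V ((proj e U).app V (c • s)))) = _
    rw [Scheme.Modules.Hom.app_smul, outP_smul, res_smul, map_map_fn, map_self_fn, θsmul]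
  let Oκ : U ⊕ ι → Y.Opens := Sum.elim O W
  let nκ : ∀ k, Γ((glued e U).mod, Oκ k) := fun k => match k with
    | .inl y => q y
    | .inr i => gI i
  let lκ : ∀ k, Γ(L, f ⁻¹ᵁ Oκ k) := fun k => match k with
    | .inl y => Θ (O y) (hO y) (q y)
    | .inr i => l i
  have hlκ : ∀ k, IsFrame L (f ⁻¹ᵁ Oκ k) (lκ k) := fun k => match k with
    | .inl y => by
      refine θframe _ _ _ ?_
      rw [hq y]
      intro V hV
      have h1 : IsFrame (M.restrict U.ι) (U.ι ⁻¹ᵁ O y) (p y) :=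
        ParaF26.isFrame_of_push U.ι ((hO y).trans (Scheme.Opens.opensRange_ι U).ge) (hp y)
      have h2 := ((Amp73.isFrame_restrict_iff U.ι M _ _).1 h1).res
        ((le_inf le_rfl (hO y)).trans (hI (O y)).ge)
      show Function.Bijective fun a : Γ(Y, V) => a • res M hV (res M (le_inf le_rfl (hO y)) (outP (O y) (p y)))
      simp only [outP, res_res]
      have h3 := h2 V hV
      simp only [res_res] at h3
      exact h3
    | .inr i => hl i
  -- compatibility of the chosen frames inside `U`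
  have key : ∀ k (V : Y.Opens) (hV : V ≤ U) (hk : V ≤ Oκ k),
      Θ V hV (res _ hk (nκ k)) = res L (f.preimage_mono hk) (lκ k) := fun k V hV hk => match k with
    | .inl y => Θres (hO y) hk (q y)
    | .inr i => by
      have hk' : V ≤ W i := hk
      show θ V hV (res M (le_inf le_rfl hV) (outP V ((proj e U).app V (res (glued e U).mod hk' (gI i))))) =
        res L (f.preimage_mono hk') (l i)
      rw [Mero90.app_res, hgIe, outP_res, hoi, res_res,
        θres (W i ⊓ U) V inf_le_right hV (le_inf hk' hV), hml, res_res]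
  refine ⟨_, hinv, nonempty_pullback_iso_of_frames f hinv Oκ (fun y => ?_) nκ (fun k => match k with
    | .inl y => hqf y
    | .inr i => hgI i) lκ hlκ fun a b c hc => ?_⟩
  · rcases hcov y with h | ⟨i, h⟩
    · exact ⟨.inl ⟨y, h⟩, hyO ⟨y, h⟩⟩
    · exact ⟨.inr i, h⟩
  · by_cases hab : a = b
    · subst hab
      have hn : IsFrame (glued e U).mod (Oκ a) (nκ a) := match a with
        | .inl y => hqf y
        | .inr i => hgI i
      have h1 : c = 1 := (hn _ inf_le_right).1 (by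
        dsimp only; rw [one_smul]; exact hc)
      rw [h1, map_one, one_smul]
    · have hle : Oκ a ⊓ Oκ b ≤ U := by
        rcases a with y | i
        · exact inf_le_left.trans (hO y)
        · rcases b with y | j
          · exact inf_le_right.trans (hO y)
          · exact hdisj i j fun h => hab (congrArg Sum.inr h)
      rw [← key b _ hle inf_le_right, ← key a _ hle inf_le_left, ← Θsmul, hc]

/-- Near a point of the base, a generator on the whole fibre. -/
theorem exists_nhd_frame_finite [IsFinite f] {L : X.Modules} (hL : PicF.IsInvertible L) (y : Y)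
    (O : Y.Opens) (hy : y ∈ O) :
    ∃ W : Y.Opens, IsAffineOpen W ∧ W ≤ O ∧ y ∈ W ∧ ∃ l : Γ(L, f ⁻¹ᵁ W), IsFrame L (f ⁻¹ᵁ W) l := by
  classical
  obtain ⟨W₀, hW₀, hyW₀, hW₀O⟩ := exists_isAffineOpen_mem_and_subset (U := O) hy
  have hA : IsAffineOpen (f ⁻¹ᵁ W₀) := hW₀.preimage f
  have hfib : {z : (f ⁻¹ᵁ W₀ : Set X) | f z.1 = y}.Finite := by
    refine Set.Finite.of_finite_image ((f.finite_preimage_singleton y).subset ?_) Subtype.val_injective.injOn
    rintro _ ⟨z, hz, rfl⟩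
    exact hz
  obtain ⟨m, hm⟩ := Mero90.exists_gen_finite hL hA hfib.toFinset
  choose V hVle hzV hVf using fun (z : ↥(f ⁻¹ᵁ W₀)) (hz : f z.1 = y) =>
    exists_frame_of_isGen hL m z.2 (hm z (hfib.mem_toFinset.2 hz))
  let V₀ : X.Opens := ⨆ (z) (hz), V z hz
  have hV₀le : V₀ ≤ f ⁻¹ᵁ W₀ := iSup₂_le hVle
  have hV₀ : IsFrame L V₀ (res L hV₀le m) := by
    refine Amp73.isFrame_of_locally _ fun z hz => ?_
    obtain ⟨w, hw⟩ := Opens.mem_iSup.1 hz
    obtain ⟨hw', hzw⟩ := Opens.mem_iSup.1 hw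
    exact ⟨V w hw', le_iSup₂ (f := V) w hw', hzw, by rw [res_res]; exact hVf w hw'⟩
  have hclosed : IsClosed (f '' (V₀ : Set X)ᶜ) := f.isClosedMap _ V₀.2.isClosed_compl
  obtain ⟨W, hW, hyW, hWle⟩ := exists_isAffineOpen_mem_and_subset
    (U := W₀ ⊓ ⟨(f '' (V₀ : Set X)ᶜ)ᶜ, hclosed.isOpen_compl⟩) (x := y) ⟨hyW₀, by
      rintro ⟨z, hz, hzy⟩
      refine hz (Opens.mem_iSup.2 ⟨⟨z, show f z ∈ W₀ from hzy ▸ hyW₀⟩, Opens.mem_iSup.2 ⟨hzy, hzV _ hzy⟩⟩)⟩
  have hle : f ⁻¹ᵁ W ≤ V₀ := fun z hz => by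
    by_contra h
    exact (hWle hz).2 ⟨z, h, rfl⟩
  exact ⟨W, hW, fun z hz => hW₀O (hWle hz).1, hyW, _, hV₀.res hle⟩

end Groth.Agent.Curves2.Glue
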