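import Groth.Agent.Curves2.Glue.Prod
import Groth.Agent.QC70.SubMod
import Groth.Agent.Amp73.PullTensor
import Groth.Agent.Mero90.Frames

/-!
# Gluing invertible modules on closed pieces meeting in a discrete set
-/

set_option autoImplicit false
set_option linter.style.haveILetI false
set_option backward.isDefEq.respectTransparency false

universe u

open CategoryTheory CategoryTheory.Limits AlgebraicGeometry TopologicalSpace
open Groth.Agent.Var76.LineBundle

noncomputable section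

namespace Groth.Agent.Curves2.Glue

variable {X : Scheme.{u}} {ι : Type u} (Z : ι → X.IdealSheafData) (L : ∀ i, (Z i).subscheme.Modules)

/-- The modules pushed forward. -/
abbrev cpiece (i : ι) : X.Modules := (Scheme.Modules.pushforward (Z i).subschemeι).obj (L i)

/-- The product of the pushed forward modules. -/
abbrev camb : X.Modules := ∏ᶜ cpiece Z L

/-- A coordinate. -/
abbrev cπ (i : ι) : camb Z L ⟶ cpiece Z L i := Pi.π (cpiece Z L) i

theorem ext_camb {V : X.Opens} {s t : Γ(camb Z L, V)}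
    (h : ∀ i, (cπ Z L i).app V s = (cπ Z L i).app V t) : s = t := by
  obtain ⟨u, -, huniq⟩ := existsUnique_pi_section (cpiece Z L) V fun i => (cπ Z L i).app V t
  exact (huniq s h).trans (huniq t fun _ => rfl).symm

theorem subsingleton_cpiece (i : ι) {V : X.Opens} (h : ∀ y ∈ V, y ∉ ((Z i).support : Set X)) :
    Subsingleton Γ(cpiece Z L i, V) :=
  subsingleton_of_forall_eq 0 fun (s : Γ(L i, (Z i).subschemeι ⁻¹ᵁ V)) =>
    Var76.ZeroScheme.eq_of_locally (L i) s 0 fun y hy =>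
      (h _ hy ((Z i).range_subschemeι ▸ Set.mem_range_self y)).elim

/-- The chosen data: at every point a neighbourhood and a common frame. -/
structure LocalData (T : Set X) where
  W : X → X.Opens
  mem : ∀ x, x ∈ W x
  isolated : ∀ x, ∀ y ∈ W x, y ∈ T → y = x
  g : ∀ x, Γ(camb Z L, W x)
  frame : ∀ x i, IsFrame (L i) ((Z i).subschemeι ⁻¹ᵁ W x)
    (show Γ(L i, (Z i).subschemeι ⁻¹ᵁ W x) from (cπ Z L i).app (W x) (g x))

variable {Z L} {T : Set X} (D : LocalData Z L T)

/-- The glued module inside the product. -/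
def cglued : QC70.LocalSubmod (camb Z L) where
  obj V :=
    { carrier := {s | ∀ x ∈ V, x ∈ T → ∃ (V' : X.Opens) (h : V' ≤ V) (h' : V' ≤ D.W x) (a : Γ(X, V')),
        x ∈ V' ∧ res (camb Z L) h s = a • res (camb Z L) h' (D.g x)}
      zero_mem' := fun x hx _ => ⟨V ⊓ D.W x, inf_le_left, inf_le_right, 0, ⟨hx, D.mem x⟩, by
        rw [zero_smul]; exact map_zero _⟩
      add_mem' := fun {s t} hs ht x hx hxT => by
        obtain ⟨V₁, h₁, h₁', a, hx₁, ha⟩ := hs x hx hxT
        obtain ⟨V₂, h₂, h₂', b, hx₂, hb⟩ := ht x hx hxT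
        refine ⟨V₁ ⊓ V₂, inf_le_left.trans h₁, inf_le_left.trans h₁',
          X.presheaf.map (homOfLE inf_le_left).op a + X.presheaf.map (homOfLE inf_le_right).op b,
          ⟨hx₁, hx₂⟩, ?_⟩
        have e₁ := congrArg (res (camb Z L) (inf_le_left : V₁ ⊓ V₂ ≤ V₁)) ha
        have e₂ := congrArg (res (camb Z L) (inf_le_right : V₁ ⊓ V₂ ≤ V₂)) hb
        simp only [res_res, res_smul] at e₁ e₂
        rw [add_smul, ← e₁, ← e₂]
        exact map_add _ _ _
      smul_mem' := fun c s hs x hx hxT => by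
        obtain ⟨V₁, h₁, h₁', a, hx₁, ha⟩ := hs x hx hxT
        refine ⟨V₁, h₁, h₁', X.presheaf.map (homOfLE h₁).op c * a, hx₁, ?_⟩
        rw [res_smul, ha, mul_smul] }
  res_mem {V V'} h s hs x hx hxT := by
    obtain ⟨V₁, h₁, h₁', a, hx₁, ha⟩ := hs x (h hx) hxT
    refine ⟨V₁ ⊓ V', inf_le_right, inf_le_left.trans h₁', X.presheaf.map (homOfLE inf_le_left).op a,
      ⟨hx₁, hx⟩, ?_⟩
    have e₁ := congrArg (res (camb Z L) (inf_le_left : V₁ ⊓ V' ≤ V₁)) ha
    change res (camb Z L) _ (res (camb Z L) h s) = _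
    simp only [res_res, res_smul] at e₁ ⊢
    exact e₁
  of_locally {V} s hs x hx hxT := by
    obtain ⟨V', hle, hxV', hmem⟩ := hs x hx
    obtain ⟨V₁, h₁, h₁', a, hx₁, ha⟩ := hmem x hxV' hxT
    refine ⟨V₁, h₁.trans hle, h₁', a, hx₁, ?_⟩
    change res (camb Z L) _ (res (camb Z L) hle s) = _ at ha
    rwa [res_res] at ha

theorem g_mem (x : X) : D.g x ∈ (cglued D).obj (D.W x) := fun y hy hyT => by
  obtain rfl := D.isolated x y hy hyT
  exact ⟨D.W y, le_rfl, le_rfl, 1, hy, (one_smul _ _).symm⟩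

theorem eq_zero_of_smul_g [IsReduced X] (hcov : ∀ x, ∃ i, x ∈ ((Z i).support : Set X)) {x : X}
    {V : X.Opens} (hV : V ≤ D.W x) (a : Γ(X, V)) (h : a • res (camb Z L) hV (D.g x) = 0) : a = 0 := by
  refine eq_zero_of_basicOpen_eq_bot a (eq_bot_iff.2 fun y hy => ?_)
  obtain ⟨i, hi⟩ := hcov y
  obtain ⟨z, rfl⟩ : y ∈ Set.range (Z i).subschemeι := by rwa [Scheme.IdealSheafData.range_subschemeι]
  have h1 := congrArg ((cπ Z L i).app V) h
  rw [Scheme.Modules.Hom.app_smul, Mero90.app_res, map_zero] at h1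
  have h2 : (Z i).subschemeι.app V a = 0 :=
    ((D.frame x i) ((Z i).subschemeι ⁻¹ᵁ V) ((Z i).subschemeι.preimage_mono hV)).1
      (a₁ := (Z i).subschemeι.app V a) (a₂ := 0) (by
        refine Eq.trans ?_ (zero_smul Γ((Z i).subscheme, (Z i).subschemeι ⁻¹ᵁ V) _).symm
        exact h1)
  have h3 : z ∈ (Z i).subschemeι ⁻¹ᵁ X.basicOpen a := hy
  rw [Scheme.preimage_basicOpen, h2, Scheme.basicOpen_zero] at h3
  exact h3.elim

theorem isFrame_g [IsReduced X] [Finite ι] (hcov : ∀ x, ∃ i, x ∈ ((Z i).support : Set X))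
    (hT : ∀ i j, i ≠ j → ∀ y, y ∈ ((Z i).support : Set X) → y ∈ ((Z j).support : Set X) → y ∈ T) (x : X) :
    IsFrame (cglued D).mod (D.W x) (⟨D.g x, g_mem D x⟩ : (cglued D).obj (D.W x)) := by
  intro V hV
  have hinj : ∀ {V' : X.Opens} (h : V' ≤ D.W x) (a b : Γ(X, V')),
      a • res (camb Z L) h (D.g x) = b • res (camb Z L) h (D.g x) → a = b := fun h a b hab =>
    sub_eq_zero.1 (eq_zero_of_smul_g D hcov h (a - b) (by rw [sub_smul, hab, sub_self]))
  refine ⟨fun a b hab => hinj hV a b (congrArg Subtype.val hab), fun s => ?_⟩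
  let s₀ := (show (cglued D).obj V from s).1
  have hs : s₀ ∈ (cglued D).obj V := (show (cglued D).obj V from s).2
  have hloc : ∀ y : V, ∃ (V' : X.Opens) (h : V' ≤ V) (a : Γ(X, V')), y.1 ∈ V' ∧
      a • res (camb Z L) (h.trans hV) (D.g x) = res (camb Z L) h s₀ := by
    rintro ⟨y, hy⟩
    by_cases hyT : y ∈ T
    · obtain rfl := D.isolated x y (hV hy) hyT
      obtain ⟨V', h, h', a, hy', ha⟩ := hs y hy hyT
      exact ⟨V', h, a, hy', ha.symm⟩
    · obtain ⟨i, hi⟩ := hcov y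
      let C : Set X := ⋃ j ∈ {j : ι | j ≠ i}, ((Z j).support : Set X)
      have hC : IsClosed C := Set.Finite.isClosed_biUnion (Set.toFinite _) fun j _ => (Z j).support.isClosed
      obtain ⟨V', hV'a, hyV', hV'⟩ := exists_isAffineOpen_mem_and_subset
        (U := V ⊓ ⟨Cᶜ, hC.isOpen_compl⟩) (x := y) ⟨hy, fun hyC => by
          obtain ⟨j, hj, hyj⟩ := Set.mem_iUnion₂.1 hyC
          exact hyT (hT i j (Ne.symm hj) y hi hyj)⟩
      have hle : V' ≤ V := fun z hz => (hV' hz).1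
      obtain ⟨c, hc⟩ := (D.frame x i ((Z i).subschemeι ⁻¹ᵁ V')
        ((Z i).subschemeι.preimage_mono (hle.trans hV))).2
        (show Γ(L i, (Z i).subschemeι ⁻¹ᵁ V') from (cπ Z L i).app V' (res (camb Z L) hle s₀))
      obtain ⟨a, ha⟩ := (Z i).subschemeι.app_surjective V' hV'a c
      refine ⟨V', hle, a, hyV', ext_camb Z L fun j => ?_⟩
      by_cases hj : j = i
      · subst hj
        rw [Scheme.Modules.Hom.app_smul, Mero90.app_res]
        refine Eq.trans ?_ hc
        rw [← ha]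
        rfl
      · haveI := subsingleton_cpiece Z L j (V := V') fun z hz hzj =>
          (hV' hz).2 (Set.mem_iUnion₂.2 ⟨j, hj, hzj⟩)
        exact Subsingleton.elim _ _
  choose V' hle a hmem ha using hloc
  obtain ⟨A, hA, -⟩ := X.sheaf.existsUnique_gluing' V' V (fun y => homOfLE (hle y))
    (fun y hy => Opens.mem_iSup.2 ⟨⟨y, hy⟩, hmem ⟨y, hy⟩⟩) a (fun y y' => by
      refine hinj (inf_le_left.trans ((hle y).trans hV)) _ _ ?_
      have e₁ := congrArg (res (camb Z L) (inf_le_left : V' y ⊓ V' y' ≤ V' y)) (ha y)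
      have e₂ := congrArg (res (camb Z L) (inf_le_right : V' y ⊓ V' y' ≤ V' y')) (ha y')
      simp only [res_smul, res_res] at e₁ e₂
      exact e₁.trans e₂.symm)
  refine ⟨(A : Γ(X, V)), Subtype.ext (Var76.ZeroScheme.eq_of_locally (camb Z L) _ _ fun y hy =>
    ⟨V' ⟨y, hy⟩, hle ⟨y, hy⟩, hmem ⟨y, hy⟩, ?_⟩)⟩
  show res (camb Z L) _ ((show Γ(X, V) from A) • res (camb Z L) hV (D.g x)) = res (camb Z L) _ s₀
  rw [res_smul, res_res, ← ha ⟨y, hy⟩]
  exact congrArg (· • _) (hA ⟨y, hy⟩)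

theorem isInvertible_cglued [IsReduced X] [Finite ι] (hcov : ∀ x, ∃ i, x ∈ ((Z i).support : Set X))
    (hT : ∀ i j, i ≠ j → ∀ y, y ∈ ((Z i).support : Set X) → y ∈ ((Z j).support : Set X) → y ∈ T) :
    PicF.IsInvertible (cglued D).mod :=
  Mero90.isInvertible_of_frames fun x => ⟨D.W x, D.mem x, _, isFrame_g D hcov hT x⟩

/-- The glued module restricts to the given ones. -/
theorem nonempty_pullback_cglued [IsReduced X] [Finite ι]
    (hcov : ∀ x, ∃ i, x ∈ ((Z i).support : Set X))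
    (hT : ∀ i j, i ≠ j → ∀ y, y ∈ ((Z i).support : Set X) → y ∈ ((Z j).support : Set X) → y ∈ T) (i : ι) :
    Nonempty ((Scheme.Modules.pullback (Z i).subschemeι).obj (cglued D).mod ≅ L i) := by
  let f := (Z i).subschemeι
  let φ : (cglued D).mod ⟶ cpiece Z L i := (cglued D).ι ≫ cπ Z L i
  let ψ := ((Scheme.Modules.pullbackPushforwardAdjunction f).homEquiv _ _).symm φ
  have hψ : (Scheme.Modules.pullbackPushforwardAdjunction f).homEquiv _ _ ψ = φ :=
    Equiv.apply_symm_apply _ _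
  rw [Adjunction.homEquiv_unit] at hψ
  have : IsIso ψ := by
    refine Amp73.isIso_of_frames ψ fun z => ?_
    let G : Γ((cglued D).mod, D.W (f z)) := (⟨D.g (f z), g_mem D (f z)⟩ : (cglued D).obj (D.W (f z)))
    refine ⟨f ⁻¹ᵁ D.W (f z), Amp73.pullS f _ _ G, D.mem (f z),
      Amp73.isFrame_pullS f (isInvertible_cglued D hcov hT) (isFrame_g D hcov hT (f z)), ?_⟩
    have h1 : ψ.app (f ⁻¹ᵁ D.W (f z)) (Amp73.pullS f _ _ G) = φ.app (D.W (f z)) G :=
      ConcreteCategory.congr_hom (congrArg (fun a => Scheme.Modules.Hom.app a (D.W (f z))) hψ) G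
    rw [h1]
    exact D.frame (f z) i
  exact ⟨asIso ψ⟩

/-- Data exist when the pieces meet in a closed discrete set. -/
theorem exists_localData [Finite ι] (hL : ∀ i, PicF.IsInvertible (L i)) (T : Set X)
    (hTx : ∀ x, IsClosed (T \ {x})) : Nonempty (LocalData Z L T) := by
  classical
  have hloc : ∀ (x : X) (i : ι), ∃ (U : X.Opens) (e : Γ(L i, (Z i).subschemeι ⁻¹ᵁ U)),
      x ∈ U ∧ IsFrame (L i) ((Z i).subschemeι ⁻¹ᵁ U) e := by
    intro x i
    by_cases hx : x ∈ ((Z i).support : Set X)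
    · obtain ⟨z, rfl⟩ : x ∈ Set.range (Z i).subschemeι := by rwa [Scheme.IdealSheafData.range_subschemeι]
      obtain ⟨V, hzV, e, he⟩ := Mero90.exists_frame' (hL i) z
      obtain ⟨O, hO, hOV⟩ := (Z i).subschemeι.isClosedEmbedding.isInducing.isOpen_iff.1 V.2
      have hle : (Z i).subschemeι ⁻¹ᵁ (⟨O, hO⟩ : X.Opens) ≤ V := fun y hy => hOV.le hy
      exact ⟨⟨O, hO⟩, res (L i) hle e, hOV.ge hzV, he.res hle⟩
    · refine ⟨⟨((Z i).support : Set X)ᶜ, (Z i).support.isClosed.isOpen_compl⟩, 0, hx, fun V hV => ?_⟩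
      have hno : ∀ y ∈ V, False := fun y hy => hV hy ((Z i).range_subschemeι ▸ Set.mem_range_self y)
      exact ⟨fun a b _ => TopCat.Presheaf.section_ext (Z i).subscheme.sheaf V a b fun y hy => (hno y hy).elim,
        fun m => ⟨0, Var76.ZeroScheme.eq_of_locally (L i) _ _ fun y hy => (hno y hy).elim⟩⟩
  choose U e hxU he using hloc
  haveI := Fintype.ofFinite ι
  let W : X → X.Opens := fun x => (Finset.univ.inf (U x)) ⊓ ⟨(T \ {x})ᶜ, (hTx x).isOpen_compl⟩
  have hWU : ∀ x i, W x ≤ U x i := fun x i => inf_le_left.trans (Finset.inf_le (Finset.mem_univ i))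
  have hmem : ∀ x, x ∈ W x := fun x => by
    refine ⟨?_, fun h => h.2 rfl⟩
    rw [SetLike.mem_coe, ← SetLike.mem_coe, Opens.coe_finset_inf]
    simp [hxU]
  choose g hg using fun x => (existsUnique_pi_section (cpiece Z L) (W x)
    fun i => (show Γ(cpiece Z L i, W x) from
      res (L i) ((Z i).subschemeι.preimage_mono (hWU x i)) (e x i))).exists
  refine ⟨⟨W, hmem, fun x y hy hyT => by_contra fun h => hy.2 ⟨hyT, h⟩, g, fun x i => ?_⟩⟩
  rw [show ((cπ Z L i).app (W x)) (g x) = _ from hg x i]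
  exact (he x i).res _

end Groth.Agent.Curves2.Glue
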