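import Groth.Agent.Curves2.Glue.Descend
import Groth.Agent.Curves2.Ample.Component
import Groth.Agent.Crv77.Basic

/-!
# A frame over a dense open with finite complement, along a finite morphism
-/

set_option autoImplicit false
set_option linter.style.haveILetI false
set_option backward.isDefEq.respectTransparency false

universe u

open CategoryTheory AlgebraicGeometry TopologicalSpace
open Groth.Agent.Var76.LineBundle

noncomputable section

namespace Groth.Agent.Curves2.Glue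

variable {X Y : Scheme.{u}}

/-- Davis' lemma: a coset of an ideal avoids finitely many primes. -/
theorem exists_add_notMem {R : Type*} [CommRing R] (I : Ideal R) (a : R) (P : Finset (Ideal R))
    (hP : ∀ p ∈ P, p.IsPrime) (h : ∀ p ∈ P, a ∈ p → ¬ I ≤ p) : ∃ k ∈ I, ∀ p ∈ P, a + k ∉ p := by
  classical
  induction P using Finset.strongInduction with
  | _ P ih =>
    rcases P.eq_empty_or_nonempty with rfl | hne
    · exact ⟨0, I.zero_mem, fun p hp => absurd hp (Finset.notMem_empty p)⟩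
    obtain ⟨p, hp, hmin⟩ := P.exists_minimal hne
    obtain ⟨k, hkI, hk⟩ := ih _ (Finset.erase_ssubset hp) (fun q hq => hP q (Finset.mem_of_mem_erase hq))
      fun q hq => h q (Finset.mem_of_mem_erase hq)
    by_cases hak : a + k ∈ p
    swap
    · refine ⟨k, hkI, fun q hq => ?_⟩
      by_cases hqp : q = p
      · exact hqp ▸ hak
      · exact hk q (Finset.mem_erase.2 ⟨hqp, hq⟩)
    have hpp := hP p hp
    have hJ : ¬ I * ∏ q ∈ P.erase p, q ≤ p := by
      intro hle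
      rcases hpp.mul_le.1 hle with h1 | h1
      · exact h p hp ((p.add_mem_iff_left (h1 hkI)).1 hak) h1
      · obtain ⟨q, hq, hqp⟩ := hpp.prod_le.1 h1
        exact Finset.ne_of_mem_erase hq (le_antisymm hqp (hmin (Finset.mem_of_mem_erase hq) hqp))
    obtain ⟨d, hd, hdp⟩ := SetLike.not_le_iff_exists.1 hJ
    have hdI : d ∈ I := (Ideal.mul_le_left (I := I) (J := ∏ x ∈ P.erase p, x)) hd
    refine ⟨k + d, I.add_mem hkI hdI, fun q hq => ?_⟩
    by_cases hqp : q = p
    · subst hqp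
      exact fun h' => hdp ((q.add_mem_iff_right hak).1 (by rwa [← add_assoc] at h'))
    · have hdq : d ∈ q := by
        have h1 : I * ∏ x ∈ P.erase p, x ≤ q := Ideal.mul_le_right.trans
          (le_trans Ideal.prod_le_inf (Finset.inf_le (f := id) (Finset.mem_erase.2 ⟨hqp, hq⟩)))
        exact h1 hd
      exact fun h' => hk q (Finset.mem_erase.2 ⟨hqp, hq⟩)
        ((q.add_mem_iff_left hdq).1 (by rwa [← add_assoc] at h'))

/-- Frames on pairwise disjoint opens glue. -/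
theorem exists_frame_of_disjoint {ι : Type u} {L : X.Modules} (W : ι → X.Opens)
    (hdisj : ∀ i j, i ≠ j → W i ⊓ W j ≤ ⊥) (l : ∀ i, Γ(L, W i)) (hl : ∀ i, IsFrame L (W i) (l i))
    (V : X.Opens) (hV : V = ⨆ i, W i) :
    ∃ e : Γ(L, V), IsFrame L V e := by
  subst hV
  obtain ⟨e, he, -⟩ := TopCat.Sheaf.existsUnique_gluing' ⟨L.presheaf, L.isSheaf⟩ W (⨆ i, W i)
    (fun i => homOfLE (le_iSup W i)) le_rfl l (fun i j => by
      rcases eq_or_ne i j with rfl | hij
      · rfl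
      · exact Var76.ZeroScheme.eq_of_locally L _ _ fun y hy => (hdisj i j hij hy).elim)
  refine ⟨e, Amp73.isFrame_of_locally e fun x hx => ?_⟩
  obtain ⟨i, hi⟩ := Opens.mem_iSup.1 hx
  refine ⟨W i, le_iSup W i, hi, ?_⟩
  rw [show res L (le_iSup W i) e = l i from he i]
  exact hl i

/-- Shrink a dense open so that an invertible module becomes trivial over it. -/
theorem exists_dense_frame (f : X ⟶ Y) [IsFinite f] [IsNoetherian Y]
    (hdim : topologicalKrullDim Y ≤ 1) (V : Y.Opens) (hV : Dense (V : Set Y))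
    {L : X.Modules} (hL : PicF.IsInvertible L) :
    ∃ V' : Y.Opens, V' ≤ V ∧ (∀ x : Y, (∀ x', x' ⤳ x → x' = x) → x ∈ V') ∧
      DiscreteTopology ↥((V' : Set Y)ᶜ) ∧ ∃ e : Γ(L, f ⁻¹ᵁ V'), IsFrame L (f ⁻¹ᵁ V') e := by
  classical
  let M : Set Y := {x | ∀ x', x' ⤳ x → x' = x}
  have hM : M.Finite := by
    refine Set.Finite.of_finite_image (f := fun x : Y => closure ({x} : Set Y)) ?_ fun a _ b _ h =>
      Inseparable.eq (inseparable_iff_closure_eq.2 h)
    refine (NoetherianSpace.finite_irreducibleComponents (α := Y)).subset ?_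
    rintro _ ⟨x, hx, rfl⟩
    obtain ⟨C, hC, hxC⟩ := exists_mem_irreducibleComponents_subset_of_isIrreducible _
      (isIrreducible_singleton (x := x)).closure
    obtain ⟨g, hg⟩ := QuasiSober.sober hC.1 (isClosed_of_mem_irreducibleComponents C hC)
    have h1 : g = x := hx g (hg.specializes (hxC (subset_closure rfl)))
    show closure ({x} : Set Y) ∈ irreducibleComponents _
    rw [← h1, hg.def]
    exact hC
  haveI : Finite M := hM.to_subtype
  let O : M → Y.Opens := fun η =>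
    ⟨(⋃ ζ ∈ {ζ : M | ζ ≠ η}, closure ({ζ.1} : Set Y))ᶜ,
      ((Set.toFinite _).isClosed_biUnion fun _ _ => isClosed_closure).isOpen_compl⟩
  have hOmem : ∀ (η : M) (y : Y), y ∈ O η → ∀ ζ : M, ζ.1 ⤳ y → ζ = η := fun η y hy ζ hζ => by
    by_contra hne
    exact hy (Set.mem_biUnion hne (specializes_iff_mem_closure.1 hζ))
  have hηO : ∀ η : M, η.1 ∈ O η := fun η h => by
    obtain ⟨ζ, hζ, h1⟩ := Set.mem_iUnion₂.1 h
    exact hζ (Subtype.ext (η.2 _ (specializes_iff_mem_closure.2 h1)))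
  have hηV : ∀ η : M, η.1 ∈ V := fun η => by
    obtain ⟨y, hyO, hyV⟩ := hV.inter_open_nonempty _ (O η).2 ⟨η.1, hηO η⟩
    obtain ⟨ζ, hζ, hζy⟩ := Ample.exists_maximal y
    exact ((hOmem η y hyO ⟨ζ, hζ⟩ hζy) ▸ hζy : η.1 ⤳ y).mem_open V.2 hyV
  choose W hW hWle hηW l hl using fun η : M =>
    exists_nhd_frame_finite f hL η.1 (V ⊓ O η) ⟨hηV η, hηO η⟩
  obtain ⟨e, he⟩ := exists_frame_of_disjoint (fun η => f ⁻¹ᵁ W η) (fun η θ hne z hz => by
      obtain ⟨ζ, hζ, hζz⟩ := Ample.exists_maximal (f z)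
      exact (hne ((hOmem η _ (hWle η hz.1).2 ⟨ζ, hζ⟩ hζz).symm.trans
        (hOmem θ _ (hWle θ hz.2).2 ⟨ζ, hζ⟩ hζz))).elim)
    l hl (f ⁻¹ᵁ ⨆ η, W η) (f.preimage_iSup W)
  have hmax : ∀ x : Y, (∀ x', x' ⤳ x → x' = x) → x ∈ ⨆ η, W η := fun x hx =>
    Opens.mem_iSup.2 ⟨⟨x, hx⟩, hηW _⟩
  refine ⟨⨆ η, W η, iSup_le fun η => (hWle η).trans inf_le_left, hmax, ?_, e, he⟩
  have hgen : ∀ z ∈ ((⨆ η, W η : Y.Opens) : Set Y)ᶜ, ∃ ζ, ζ ⤳ z ∧ z ≠ ζ := fun z hz => by
    obtain ⟨ζ, hζ, hζz⟩ := Ample.exists_maximal z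
    exact ⟨ζ, hζz, fun h => hz (h ▸ hmax ζ hζ)⟩
  have hfin := Crv77.finite_of_isClosed hdim (⨆ η, W η : Y.Opens).2.isClosed_compl hgen
  haveI : Finite ↥(((⨆ η, W η : Y.Opens) : Set Y)ᶜ) := hfin.to_subtype
  haveI : T1Space ↥(((⨆ η, W η : Y.Opens) : Set Y)ᶜ) := ⟨fun z => by
    obtain ⟨ζ, hζz, hne⟩ := hgen z.1 z.2
    have h1 := (Crv77.isClosed_singleton_of_generalization hdim hζz hne).preimage
      (continuous_subtype_val : Continuous (Subtype.val : ↥(((⨆ η, W η : Y.Opens) : Set Y)ᶜ) → Y))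
    have h2 : (Subtype.val ⁻¹' {z.1} : Set ↥(((⨆ η, W η : Y.Opens) : Set Y)ᶜ)) = {z} := by
      ext; simp [Subtype.ext_iff]
    exact h2 ▸ h1⟩
  infer_instance

end Groth.Agent.Curves2.Glue
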