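import Groth.Agent.Curves2.Glue.Prod
import Groth.Agent.QC70.SubMod
import Groth.Agent.Amp73.Gen
import Groth.Agent.ParaF26.Open
import Groth.Agent.ParaF26.Sections
import Groth.Agent.Mero90.Frames

/-!
# Gluing an invertible module along a family of opens meeting only inside `U`
-/

set_option autoImplicit false
set_option linter.style.haveILetI false
set_option backward.isDefEq.respectTransparency false

universe u

open CategoryTheory CategoryTheory.Limits AlgebraicGeometry TopologicalSpace
open Groth.Agent.Var76.LineBundle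

noncomputable section

namespace Groth.Agent.Curves2.Glue

variable {X : Scheme.{u}} {ι : Type u} (W : ι → X.Opens)

theorem map_map_fn {A B C : X.Opens} (h : B ≤ A) (h' : C ≤ B) (f : Γ(X, A)) :
    X.presheaf.map (homOfLE h').op (X.presheaf.map (homOfLE h).op f) =
      X.presheaf.map (homOfLE (h'.trans h)).op f := by
  simp only [← ConcreteCategory.comp_apply, ← Functor.map_comp, ← op_comp, homOfLE_comp]

theorem map_self_fn {A : X.Opens} (h : A ≤ A) (f : Γ(X, A)) :
    X.presheaf.map (homOfLE h).op f = f := by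
  simp

/-- The structure module of `W i` pushed forward. -/
abbrev piece (i : ι) : X.Modules :=
  (Scheme.Modules.pushforward (W i).ι).obj (Coh.structureModule (W i : Scheme.{u}))

theorem bijective_res_piece (i : ι) (V : X.Opens) :
    Function.Bijective (res (piece W i) (inf_le_left : V ⊓ W i ≤ V)) :=
  ParaF26.closed_pushforward (W i).ι _ ⊤
    (by rw [Scheme.Opens.opensRange_ι]; exact inf_le_right) V le_top

theorem bijective_app_piece (i : ι) {V : X.Opens} (hV : V ≤ W i) :
    Function.Bijective ((W i).ι.app V) :=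
  ParaF26.bijective_app_of_le (W i).ι (hV.trans (Scheme.Opens.opensRange_ι (W i)).ge)

/-- The ambient module of the gluing. -/
abbrev amb (P : X.Modules) : X.Modules := P ⊞ (∏ᶜ piece W)

variable (P : X.Modules)

/-- The component in `P`. -/
abbrev fstP : amb W P ⟶ P := biprod.fst

/-- The components in the pieces. -/
abbrev sndP (i : ι) : amb W P ⟶ piece W i := biprod.snd ≫ Pi.π (piece W) i

theorem existsUnique_amb (V : X.Opens) (s : Γ(P, V)) (a : ∀ i, Γ(piece W i, V)) :
    ∃! x : Γ(amb W P, V), (fstP W P).app V x = s ∧ ∀ i, (sndP W P i).app V x = a i := by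
  obtain ⟨b, hb, huniq⟩ := existsUnique_pi_section (piece W) V a
  have h1 : ∀ c : Γ(P, V), (biprod.fst : amb W P ⟶ P).app V ((biprod.inl : P ⟶ amb W P).app V c) = c :=
    fun c => congrArg (fun φ : P ⟶ P => φ.app V c) biprod.inl_fst
  have h2 : ∀ c : Γ(∏ᶜ piece W, V),
      (biprod.snd : amb W P ⟶ ∏ᶜ piece W).app V ((biprod.inr : ∏ᶜ piece W ⟶ amb W P).app V c) = c :=
    fun c => congrArg (fun φ : ∏ᶜ piece W ⟶ ∏ᶜ piece W => φ.app V c) biprod.inr_snd
  have h3 : ∀ c : Γ(∏ᶜ piece W, V),
      (biprod.fst : amb W P ⟶ P).app V ((biprod.inr : ∏ᶜ piece W ⟶ amb W P).app V c) = 0 :=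
    fun c => congrArg (fun φ : ∏ᶜ piece W ⟶ P => φ.app V c) biprod.inr_fst
  have h4 : ∀ c : Γ(P, V),
      (biprod.snd : amb W P ⟶ ∏ᶜ piece W).app V ((biprod.inl : P ⟶ amb W P).app V c) = 0 :=
    fun c => congrArg (fun φ : P ⟶ ∏ᶜ piece W => φ.app V c) biprod.inl_snd
  refine ⟨(biprod.inl : P ⟶ amb W P).app V s + (biprod.inr : ∏ᶜ piece W ⟶ amb W P).app V b,
    ⟨?_, fun i => ?_⟩, fun x hx => ?_⟩
  · show (biprod.fst : amb W P ⟶ P).app V _ = s
    rw [map_add, h1, h3, add_zero]
  · show (Pi.π (piece W) i).app V ((biprod.snd : amb W P ⟶ ∏ᶜ piece W).app V _) = a i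
    rw [map_add, h2, h4, zero_add, hb]
  · have ht : (biprod.inl : P ⟶ amb W P).app V ((biprod.fst : amb W P ⟶ P).app V x) +
        (biprod.inr : ∏ᶜ piece W ⟶ amb W P).app V ((biprod.snd : amb W P ⟶ ∏ᶜ piece W).app V x) = x :=
      congrArg (fun φ : amb W P ⟶ amb W P => φ.app V x) biprod.total
    rw [← ht]
    have e1 : (biprod.fst : amb W P ⟶ P).app V x = s := hx.1
    have e2 : (biprod.snd : amb W P ⟶ ∏ᶜ piece W).app V x = b := huniq _ hx.2
    rw [e1, e2]

/-- The coordinate on the `i`-th open. -/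
def coord (i : ι) (V : X.Opens) (x : Γ(amb W P, V)) : Γ(X, V ⊓ W i) :=
  (Equiv.ofBijective _ (bijective_app_piece W i (inf_le_right : V ⊓ W i ≤ W i))).symm
    (res (piece W i) (inf_le_left : V ⊓ W i ≤ V) ((sndP W P i).app V x))

theorem coord_spec (i : ι) (V : X.Opens) (x : Γ(amb W P, V)) :
    (W i).ι.app (V ⊓ W i) (coord W P i V x) =
      res (piece W i) (inf_le_left : V ⊓ W i ≤ V) ((sndP W P i).app V x) :=
  Equiv.apply_symm_apply (Equiv.ofBijective _ (bijective_app_piece W i inf_le_right)) _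

theorem eq_coord {i : ι} {V : X.Opens} {x : Γ(amb W P, V)} {f : Γ(X, V ⊓ W i)}
    (h : (W i).ι.app (V ⊓ W i) f =
      res (piece W i) (inf_le_left : V ⊓ W i ≤ V) ((sndP W P i).app V x)) : coord W P i V x = f :=
  (bijective_app_piece W i inf_le_right).1 ((coord_spec W P i V x).trans h.symm)

theorem app_res_piece (i : ι) {A B : X.Opens} (h : B ≤ A) (f : Γ(X, A)) :
    (W i).ι.app B (X.presheaf.map (homOfLE h).op f) = res (piece W i) h ((W i).ι.app A f) :=
  ConcreteCategory.congr_hom ((W i).ι.naturality (homOfLE h).op) f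

theorem coord_res (i : ι) {V V' : X.Opens} (h : V' ≤ V) (x : Γ(amb W P, V)) :
    coord W P i V' (res (amb W P) h x) =
      X.presheaf.map (homOfLE (inf_le_inf_right (W i) h)).op (coord W P i V x) := by
  refine eq_coord W P ?_
  rw [app_res_piece, coord_spec, res_res, Mero90.app_res, res_res]

theorem coord_add (i : ι) (V : X.Opens) (x y : Γ(amb W P, V)) :
    coord W P i V (x + y) = coord W P i V x + coord W P i V y := by
  refine eq_coord W P ?_
  rw [map_add, map_add, coord_spec, coord_spec, Amp73.res_add]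

theorem coord_smul (i : ι) (V : X.Opens) (a : Γ(X, V)) (x : Γ(amb W P, V)) :
    coord W P i V (a • x) =
      X.presheaf.map (homOfLE (inf_le_left : V ⊓ W i ≤ V)).op a * coord W P i V x := by
  refine eq_coord W P ?_
  rw [Scheme.Modules.Hom.app_smul, res_smul, map_mul, coord_spec]
  rfl

theorem coord_zero (i : ι) (V : X.Opens) : coord W P i V 0 = 0 := by
  refine eq_coord W P ?_
  rw [map_zero, map_zero]
  exact (map_zero _).symm

theorem ext_amb {V : X.Opens} {x y : Γ(amb W P, V)}
    (h1 : (fstP W P).app V x = (fstP W P).app V y) (h2 : ∀ i, coord W P i V x = coord W P i V y) :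
    x = y := by
  obtain ⟨z, -, huniq⟩ := existsUnique_amb W P V ((fstP W P).app V y) fun i => (sndP W P i).app V y
  refine (huniq x ⟨h1, fun i => ?_⟩).trans (huniq y ⟨rfl, fun i => rfl⟩).symm
  refine (bijective_res_piece W i V).1 ?_
  rw [← coord_spec, ← coord_spec, h2]

theorem exists_amb (V : X.Opens) (s : Γ(P, V)) (f : ∀ i, Γ(X, V ⊓ W i)) :
    ∃ x : Γ(amb W P, V), (fstP W P).app V x = s ∧ ∀ i, coord W P i V x = f i := by
  choose a ha using fun i => (bijective_res_piece W i V).2 ((W i).ι.app (V ⊓ W i) (f i))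
  obtain ⟨x, ⟨hx1, hx2⟩, -⟩ := existsUnique_amb W P V s a
  exact ⟨x, hx1, fun i => eq_coord W P (by rw [hx2, ha])⟩

variable {W P} {U : X.Opens} (e : ∀ i, Γ(P, W i))

/-- The compatibility of the component in `P` with the `i`-th coordinate. -/
def Compat (i : ι) (V : X.Opens) (x : Γ(amb W P, V)) : Prop :=
  res P ((inf_le_left : V ⊓ W i ⊓ U ≤ V ⊓ W i).trans inf_le_left) ((fstP W P).app V x) =
    X.presheaf.map (homOfLE (inf_le_left : V ⊓ W i ⊓ U ≤ V ⊓ W i)).op (coord W P i V x) •
      res P ((inf_le_left : V ⊓ W i ⊓ U ≤ V ⊓ W i).trans inf_le_right) (e i)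

/-- The glued module inside the ambient. -/
def glued (U : X.Opens) : QC70.LocalSubmod (amb W P) where
  obj V :=
    { carrier := {x | ∀ i, Compat (U := U) e i V x}
      zero_mem' := fun i => by
        unfold Compat
        rw [coord_zero, map_zero, map_zero, zero_smul]
        exact map_zero _
      add_mem' := fun {x y} hx hy i => by
        have h1 := hx i
        have h2 := hy i
        unfold Compat at h1 h2 ⊢
        rw [map_add, Amp73.res_add, h1, h2, coord_add, map_add, add_smul]
      smul_mem' := fun a x hx i => by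
        have h1 := hx i
        unfold Compat at h1 ⊢
        rw [Scheme.Modules.Hom.app_smul, res_smul, h1, coord_smul, map_mul, mul_smul]
        simp only [← ConcreteCategory.comp_apply, ← Functor.map_comp, ← op_comp, homOfLE_comp] }
  res_mem {V V'} h x hx i := by
    have h1 := congrArg (res P (inf_le_inf_right U (inf_le_inf_right (W i) h) :
      V' ⊓ W i ⊓ U ≤ V ⊓ W i ⊓ U)) (hx i)
    show Compat e i V' (res (amb W P) h x)
    unfold Compat
    rw [res_res, res_smul, res_res] at h1
    rw [Mero90.app_res, res_res, coord_res, h1]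
    simp only [← ConcreteCategory.comp_apply, ← Functor.map_comp, ← op_comp, homOfLE_comp]
  of_locally {V} x hx i := by
    refine Var76.ZeroScheme.eq_of_locally P _ _ fun y hy => ?_
    obtain ⟨V', hle, hyV', hmem⟩ := hx y hy.1.1
    refine ⟨V' ⊓ W i ⊓ U, inf_le_inf_right U (inf_le_inf_right (W i) hle), ⟨⟨hyV', hy.1.2⟩, hy.2⟩, ?_⟩
    have h1 := hmem i
    change Compat e i V' (res (amb W P) hle x) at h1
    unfold Compat at h1
    rw [Mero90.app_res, res_res, coord_res] at h1
    rw [res_res, res_smul, res_res, h1]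
    simp only [← ConcreteCategory.comp_apply, ← Functor.map_comp, ← op_comp, homOfLE_comp]

theorem mem_glued {V : X.Opens} {x : Γ(amb W P, V)} :
    x ∈ (glued e U).obj V ↔ ∀ i, Compat (U := U) e i V x := Iff.rfl

/-- The projection to `P`. -/
def proj (U : X.Opens) : (glued e U).mod ⟶ P := (glued e U).ι ≫ fstP W P

theorem bijective_proj (he : ∀ i, IsFrame P (W i ⊓ U) (res P inf_le_left (e i)))
    {V : X.Opens} (hV : V ≤ U) : Function.Bijective ((proj e U).app V) := by
  have hle : ∀ i, V ⊓ W i ≤ W i ⊓ U := fun i => le_inf inf_le_right (inf_le_left.trans hV)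
  have hle' : ∀ i, V ⊓ W i ≤ V ⊓ W i ⊓ U := fun i => le_inf le_rfl (inf_le_left.trans hV)
  constructor
  · intro x y hxy
    change (fstP W P).app V (show (glued e U).obj V from x).1 =
      (fstP W P).app V (show (glued e U).obj V from y).1 at hxy
    refine Subtype.ext (ext_amb W P hxy fun i => (he i _ (hle i)).1 ?_)
    have h1 := congrArg (res P (hle' i)) ((show (glued e U).obj V from x).2 i)
    have h2 := congrArg (res P (hle' i)) ((show (glued e U).obj V from y).2 i)
    simp only [res_smul, res_res, map_map_fn, map_self_fn] at h1 h2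
    dsimp only
    rw [res_res]
    exact h1.symm.trans ((congrArg _ hxy).trans h2)
  · intro s
    choose f hf using fun i => (he i (V ⊓ W i) (hle i)).2 (res P inf_le_left s)
    obtain ⟨x, hx1, hx2⟩ := exists_amb W P V s f
    have hx : x ∈ (glued e U).obj V := fun i => by
      have h1 := congrArg (res P (inf_le_left : V ⊓ W i ⊓ U ≤ V ⊓ W i)) (hf i)
      unfold Compat
      dsimp only at h1
      simp only [res_smul, res_res] at h1
      rw [hx1, hx2]
      exact h1.symm
    exact ⟨(⟨x, hx⟩ : (glued e U).obj V), hx1⟩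

theorem exists_gen (hdisj : ∀ i j, i ≠ j → W i ⊓ W j ≤ U)
    (hP : ∀ V : X.Opens, Function.Bijective (res P (inf_le_left : V ⊓ U ≤ V)))
    (he : ∀ i, IsFrame P (W i ⊓ U) (res P inf_le_left (e i))) (j : ι) :
    ∃ g : Γ((glued e U).mod, W j), IsFrame (glued e U).mod (W j) g ∧
      (proj e U).app (W j) g = e j ∧ coord W P j (W j) ((glued e U).ι.app (W j) g) = 1 := by
  classical
  have hle : ∀ i, i ≠ j → W j ⊓ W i ≤ W i ⊓ U := fun i hi => le_inf inf_le_right (hdisj j i hi.symm)
  have hex : ∀ i, ∃ f : Γ(X, W j ⊓ W i), (i = j → f = 1) ∧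
      X.presheaf.map (homOfLE (inf_le_left : W j ⊓ W i ⊓ U ≤ W j ⊓ W i)).op f •
        res P ((inf_le_left : W j ⊓ W i ⊓ U ≤ W j ⊓ W i).trans inf_le_right) (e i) =
        res P ((inf_le_left : W j ⊓ W i ⊓ U ≤ W j ⊓ W i).trans inf_le_left) (e j) := by
    intro i
    by_cases hi : i = j
    · subst hi
      exact ⟨1, fun _ => rfl, by rw [map_one, one_smul]⟩
    · obtain ⟨f, hf⟩ := (he i (W j ⊓ W i) (hle i hi)).2 (res P inf_le_left (e j))
      refine ⟨f, fun h => (hi h).elim, ?_⟩
      have h1 := congrArg (res P (inf_le_left : W j ⊓ W i ⊓ U ≤ W j ⊓ W i)) hf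
      dsimp only at h1
      simpa only [res_smul, res_res] using h1
  choose f hf1 hf using hex
  obtain ⟨x, hx1, hx2⟩ := exists_amb W P (W j) (e j) f
  have hx : x ∈ (glued e U).obj (W j) := fun i => by
    unfold Compat
    rw [hx1, hx2]
    exact (hf i).symm
  refine ⟨(⟨x, hx⟩ : (glued e U).obj (W j)), fun V hV => ⟨fun a b hab => ?_, fun t => ?_⟩, hx1, (hx2 j).trans (hf1 j rfl)⟩
  · have h1 : a • res (amb W P) hV x = b • res (amb W P) hV x := congrArg Subtype.val hab
    have h2 := congrArg (coord W P j V) h1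
    rw [coord_smul, coord_smul, coord_res, hx2, hf1 j rfl, map_one, mul_one, mul_one] at h2
    exact (ParaF26.bijective_map_of_eq (inf_le_left : V ⊓ W j ≤ V) (le_inf le_rfl hV)).1 h2
  · let y := (show (glued e U).obj V from t).1
    have hy : ∀ i, Compat (U := U) e i V y := (show (glued e U).obj V from t).2
    obtain ⟨a, ha⟩ := (ParaF26.bijective_map_of_eq (inf_le_left : V ⊓ W j ≤ V)
      (le_inf le_rfl hV)).2 (coord W P j V y)
    have hfst : (fstP W P).app V y = a • res P hV (e j) := by
      refine (hP V).1 ?_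
      have hl : V ⊓ U ≤ V ⊓ W j ⊓ U := le_inf (le_inf inf_le_left (inf_le_left.trans hV)) inf_le_right
      have h1 := congrArg (res P hl) (hy j)
      rw [← ha] at h1
      simp only [res_smul, res_res, map_map_fn] at h1 ⊢
      exact h1
    refine ⟨a, Subtype.ext (ext_amb W P ?_ fun i => ?_)⟩
    · show (fstP W P).app V (a • res (amb W P) hV x) = (fstP W P).app V y
      rw [Scheme.Modules.Hom.app_smul, Mero90.app_res, hx1, hfst]
    · show coord W P i V (a • res (amb W P) hV x) = coord W P i V y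
      by_cases hi : i = j
      · subst hi
        rw [coord_smul, coord_res, hx2, hf1 _ rfl, map_one, mul_one, ha]
      · have hVi : V ⊓ W i ≤ W i ⊓ U := (inf_le_inf_right (W i) hV).trans (hle i hi)
        refine (he i _ hVi).1 ?_
        have hl : V ⊓ W i ≤ V ⊓ W i ⊓ U := le_inf le_rfl (hVi.trans inf_le_right)
        have h2 := congrArg (res P hl) (hy i)
        have h3 := congrArg (res P hl) ((((glued e U).obj V).smul_mem a ((glued e U).res_mem hV hx)) i)
        rw [Scheme.Modules.Hom.app_smul, Mero90.app_res, hx1, ← hfst] at h3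
        simp only [res_smul, res_res, map_map_fn, map_self_fn] at h2 h3 ⊢
        exact h3.symm.trans h2

theorem isInvertible_glued (hdisj : ∀ i j, i ≠ j → W i ⊓ W j ≤ U)
    (hcov : ∀ x : X, x ∈ U ∨ ∃ i, x ∈ W i)
    (hP : ∀ V : X.Opens, Function.Bijective (res P (inf_le_left : V ⊓ U ≤ V)))
    (hPf : ∀ y ∈ U, ∃ U₀ : X.Opens, U₀ ≤ U ∧ y ∈ U₀ ∧ ∃ p : Γ(P, U₀), IsFrame P U₀ p)
    (he : ∀ i, IsFrame P (W i ⊓ U) (res P inf_le_left (e i))) :
    PicF.IsInvertible (glued e U).mod := by
  refine Mero90.isInvertible_of_frames fun y => ?_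
  rcases hcov y with hy | ⟨j, hy⟩
  · obtain ⟨U₀, hU₀, hyU₀, p, hp⟩ := hPf y hy
    obtain ⟨q, hq⟩ := (bijective_proj e he hU₀).2 p
    refine ⟨U₀, hyU₀, q, fun V hV => ?_⟩
    refine (Function.Bijective.of_comp_iff' (bijective_proj e he (hV.trans hU₀)) _).1 ?_
    have e1 : ((proj e U).app V) ∘ (fun a : Γ(X, V) => a • res (glued e U).mod hV q) =
        fun a : Γ(X, V) => a • res P hV p := by
      funext a
      rw [Function.comp_apply, Scheme.Modules.Hom.app_smul, Mero90.app_res, hq]
    rw [e1]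
    exact hp V hV
  · obtain ⟨g, hg, -⟩ := exists_gen e hdisj hP he j
    exact ⟨W j, hy, g, hg⟩

/-- A section of `P` whose coordinates near the complement are given lifts to the glued module; it
generates exactly on `U` when the coordinates vanish on the complement. -/
theorem exists_lift_genLocus (hdisj : ∀ i j, i ≠ j → W i ⊓ W j ≤ U)
    (hcov : ∀ x : X, x ∈ U ∨ ∃ i, x ∈ W i)
    (hP : ∀ V : X.Opens, Function.Bijective (res P (inf_le_left : V ⊓ U ≤ V)))
    (he : ∀ i, IsFrame P (W i ⊓ U) (res P inf_le_left (e i)))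
    (s : Γ(P, ⊤)) (hs : IsFrame P U (res P le_top s)) (f : ∀ i, Γ(X, W i))
    (hf : ∀ i, res P (le_top : W i ⊓ U ≤ ⊤) s =
      X.presheaf.map (homOfLE (inf_le_left : W i ⊓ U ≤ W i)).op (f i) •
        res P (inf_le_left : W i ⊓ U ≤ W i) (e i))
    (hvan : ∀ i x (hx : x ∈ W i), x ∉ U → ¬ IsUnit (X.presheaf.germ (W i) x hx (f i))) :
    ∃ t : Coh.structureModule X ⟶ (glued e U).mod, CohB1.genLocus _ t = U := by
  obtain ⟨x, hx1, hx2⟩ := exists_amb W P ⊤ s
    fun i => X.presheaf.map (homOfLE (inf_le_right : ⊤ ⊓ W i ≤ W i)).op (f i)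
  have hx : x ∈ (glued e U).obj ⊤ := fun i => by
    unfold Compat
    have h1 := congrArg (res P (le_inf (inf_le_left.trans inf_le_right) inf_le_right :
      (⊤ : X.Opens) ⊓ W i ⊓ U ≤ W i ⊓ U)) (hf i)
    rw [hx1, hx2]
    simp only [res_smul, res_res, map_map_fn] at h1 ⊢
    exact h1
  let t₀ : Γ((glued e U).mod, ⊤) := (⟨x, hx⟩ : (glued e U).obj ⊤)
  have ht₀ : (proj e U).app ⊤ t₀ = s := hx1
  refine ⟨EGA73.unitHom _ t₀, ?_⟩
  have hval : ∀ V : X.Opens, Var76.ZeroScheme.val (glued e U).mod (EGA73.unitHom _ t₀) V =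
      res (glued e U).mod le_top t₀ := fun V => by
    show (EGA73.unitHom _ t₀).app V (1 : Γ(X, V)) = _
    rw [EGA73.unitHom_app, one_smul]
  refine le_antisymm (fun y hy => ?_) (fun y hy => Amp73.mem_genLocus_iff.2 ⟨U, hy, ?_⟩)
  · by_contra hyU
    obtain ⟨i, hyi⟩ := (hcov y).resolve_left hyU
    obtain ⟨g, hg, -, hg1⟩ := exists_gen e hdisj hP he i
    obtain ⟨V, hyV, hV⟩ := Amp73.mem_genLocus_iff.1 hy
    rw [hval] at hV
    have hVi : V ⊓ W i ≤ W i := inf_le_right
    have h1 := hV.res (inf_le_left : V ⊓ W i ≤ V)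
    rw [res_res] at h1
    have h2 : res (glued e U).mod le_top t₀ =
        X.presheaf.map (homOfLE hVi).op (f i) • res (glued e U).mod hVi g := by
      obtain ⟨a, ha⟩ := (hg (V ⊓ W i) hVi).2 (res (glued e U).mod le_top t₀)
      dsimp only at ha
      have h3 : a • res (amb W P) hVi ((glued e U).ι.app (W i) g) = res (amb W P) le_top x :=
        congrArg Subtype.val ha
      have h4 := congrArg (coord W P i (V ⊓ W i)) h3
      rw [coord_smul, coord_res, hg1, map_one, mul_one, coord_res, hx2, map_map_fn] at h4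
      have h5 : a = X.presheaf.map (homOfLE hVi).op (f i) := by
        refine (ParaF26.bijective_map_of_eq (inf_le_left : V ⊓ W i ⊓ W i ≤ V ⊓ W i)
          (le_inf le_rfl inf_le_right)).1 ?_
        rw [h4, map_map_fn]
      rw [← ha, h5]
    rw [h2, Amp73.isFrame_smul_iff (hg.res hVi)] at h1
    refine hvan i y hyi hyU ?_
    rw [← X.presheaf.germ_res_apply (homOfLE hVi) y ⟨hyV, hyi⟩]
    exact h1.map _
  · rw [hval]
    intro V hV
    refine (Function.Bijective.of_comp_iff' (bijective_proj e he hV) _).1 ?_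
    have e1 : ((proj e U).app V) ∘
        (fun a : Γ(X, V) => a • res (glued e U).mod hV (res (glued e U).mod le_top t₀)) =
        fun a : Γ(X, V) => a • res P hV (res P le_top s) := by
      funext a
      rw [Function.comp_apply, Scheme.Modules.Hom.app_smul, Mero90.app_res, Mero90.app_res, ht₀]
    rw [e1]
    exact hs V hV

end Groth.Agent.Curves2.Glue
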