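import Groth.Agent.Var76.LineBundle
import Mathlib.AlgebraicGeometry.Modules.Sheaf
import Mathlib.CategoryTheory.Limits.Types.Products
import Mathlib.CategoryTheory.Limits.Preserves.Shapes.Products
import Mathlib.CategoryTheory.Limits.Shapes.FunctorToTypes
import Mathlib.Algebra.Category.Grp.Limits

/-!
# Sections of products of modules
-/

set_option autoImplicit false

universe u

open CategoryTheory CategoryTheory.Limits AlgebraicGeometry TopologicalSpace Opposite

noncomputable section

namespace Groth.Agent.Curves2.Glue

variable {X : Scheme.{u}}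

/-- Sections over a fixed open, as a functor to types. -/
def secFunctor (V : X.Opens) : X.Modules ⥤ Type u :=
  Scheme.Modules.toPresheaf X ⋙ (evaluation _ _).obj (op V) ⋙ forget AddCommGrpCat.{u}

instance preservesLimits_secFunctor (V : X.Opens) : PreservesLimits (secFunctor (X := X) V) := by
  haveI h1 : PreservesLimits
      ((evaluation (Opens X)ᵒᵖ AddCommGrpCat.{u}).obj (op V) ⋙ forget AddCommGrpCat.{u}) :=
    comp_preservesLimits _ _
  exact @comp_preservesLimits _ _ _ _ _ _ (Scheme.Modules.toPresheaf X) _ inferInstance h1

/-- A family of sections determines a unique section of the product. -/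
theorem existsUnique_pi_section {ι : Type u} (Q : ι → X.Modules) (V : X.Opens) (a : ∀ i, Γ(Q i, V)) :
    ∃! s : Γ(∏ᶜ Q, V), ∀ i, (Pi.π Q i).app V s = a i := by
  haveI : PreservesLimit (Discrete.functor Q) (secFunctor (X := X) V) := inferInstance
  let h := isLimitFanMkObjOfIsLimit (secFunctor (X := X) V) Q (fun i => Pi.π Q i) (productIsProduct Q)
  let e := (h.conePointUniqueUpToIso (Types.productLimitCone _).isLimit).toEquiv
  have he : ∀ (s : Γ(∏ᶜ Q, V)) (i : ι), (Pi.π Q i).app V s = e s i := fun s i =>
    (ConcreteCategory.congr_hom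
      (h.conePointUniqueUpToIso_hom_comp (Types.productLimitCone _).isLimit ⟨i⟩) s).symm
  refine ⟨e.symm a, fun i => ?_, fun s hs => ?_⟩
  · rw [he, e.apply_symm_apply]
  · rw [← e.symm_apply_apply s]
    exact congrArg e.symm (funext fun i => (he s i).symm.trans (hs i))

end Groth.Agent.Curves2.Glue
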