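import Groth.Agent.Curves2.Glue.DenseFrame

/-!
# Lifting units along closed immersions near isolated points
-/

set_option autoImplicit false
set_option linter.style.haveILetI false
set_option backward.isDefEq.respectTransparency false

universe u

open CategoryTheory AlgebraicGeometry TopologicalSpace IsLocalRing
open Groth.Agent.Var76.LineBundle

noncomputable section

namespace Groth.Agent.Curves2.Glue

variable {X Y : Scheme.{u}} (f : X ⟶ Y)

theorem surjective_app_of_closedImmersion (V : Y.Opens) (hV : IsClosedImmersion (f ∣_ V)) {A : Y.Opens}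
    (hA : IsAffineOpen A) (hAV : A ≤ V) : Function.Surjective (f.app A) := by
  have hA' : IsAffineOpen (V.ι ⁻¹ᵁ A) :=
    hA.preimage_of_isOpenImmersion V.ι (by rw [Scheme.Opens.opensRange_ι]; exact hAV)
  have h1 := (f ∣_ V).app_surjective _ hA'
  rw [morphismRestrict_app] at h1
  have e : V.ι ''ᵁ (V.ι ⁻¹ᵁ A) = A := by
    rw [Scheme.Hom.image_preimage_eq_opensRange_inf, Scheme.Opens.opensRange_ι, inf_eq_right.2 hAV]
  have key : ∀ A' : Y.Opens, A' = A → Function.Surjective (f.app A') → Function.Surjective (f.app A) := by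
    rintro A' rfl h; exact h
  refine key _ e fun b => ?_
  obtain ⟨a, ha⟩ := h1 (X.presheaf.map (eqToHom (image_morphismRestrict_preimage f V (V.ι ⁻¹ᵁ A))).op b)
  rw [CommRingCat.comp_apply] at ha
  exact ⟨a, (ConcreteCategory.bijective_of_isIso _).1 ha⟩

theorem mem_basicOpen_iff_primeIdealOf {A : Y.Opens} (hA : IsAffineOpen A) (y : A) (u : Γ(Y, A)) :
    y.1 ∈ Y.basicOpen u ↔ u ∉ (hA.primeIdealOf y).asIdeal := by
  have h := Iff.of_eq (congrArg (hA.primeIdealOf y ∈ ·) (hA.fromSpec_preimage_basicOpen u))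
  change hA.fromSpec (hA.primeIdealOf y) ∈ Y.basicOpen u ↔ _ at h
  rwa [hA.fromSpec_primeIdealOf] at h

theorem finite_primeSpectrum_of_dim_le_one (R : Type u) [CommRing R] [IsLocalRing R] [IsNoetherianRing R]
    (hd : ringKrullDim R ≤ 1) : Finite (PrimeSpectrum R) := by
  have : Ring.KrullDimLE 1 R := Ring.krullDimLE_iff.mpr hd
  have h1 : {I : Ideal R | I.IsPrime}.Finite := by
    refine ((minimalPrimes.finite_of_isNoetherianRing R).insert (maximalIdeal R)).subset fun I hI => ?_
    rcases Ring.krullDimLE_one_iff.1 this I hI with h2 | h2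
    · exact Or.inr h2
    · exact Or.inl (IsLocalRing.eq_maximalIdeal h2)
  haveI : Finite {I : Ideal R // I.IsPrime} := h1.to_subtype
  exact Finite.of_equiv _ (PrimeSpectrum.equivSubtype R).symm.toEquiv

/-- A unit upstairs lifts to a function which is invertible at finitely many given points. -/
theorem exists_unit_lift {A : Y.Opens} (hA : IsAffineOpen A) (hs : Function.Surjective (f.app A))
    (c : Γ(X, f ⁻¹ᵁ A)) (hc : IsUnit c) (F : Set A) (hF : F.Finite) :
    ∃ u : Γ(Y, A), f.app A u = c ∧ ∀ y ∈ F, y.1 ∈ Y.basicOpen u := by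
  classical
  obtain ⟨a, ha⟩ := hs c
  obtain ⟨b, hb⟩ := hs ↑hc.unit⁻¹
  obtain ⟨k, hk, hP⟩ := exists_add_notMem (RingHom.ker (f.app A).hom) a
    (hF.toFinset.image fun y => (hA.primeIdealOf y).asIdeal)
    (fun p hp => by
      obtain ⟨y, -, rfl⟩ := Finset.mem_image.1 hp
      exact (hA.primeIdealOf y).2)
    (fun p hp hap hle => by
      obtain ⟨y, -, rfl⟩ := Finset.mem_image.1 hp
      refine (hA.primeIdealOf y).2.ne_top ((Ideal.eq_top_iff_one _).2 ?_)
      have h0 : 1 - a * b ∈ RingHom.ker (f.app A).hom := by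
        rw [RingHom.mem_ker, map_sub, map_one, map_mul]
        show 1 - f.app A a * f.app A b = 0
        rw [ha, hb, IsUnit.mul_val_inv, sub_self]
      have h1 := Ideal.add_mem _ (hle h0) (Ideal.mul_mem_right b _ hap)
      rwa [sub_add_cancel] at h1)
  refine ⟨a + k, ?_, fun y hy => (mem_basicOpen_iff_primeIdealOf hA y _).2
    (hP _ (Finset.mem_image.2 ⟨y, hF.mem_toFinset.2 hy, rfl⟩))⟩
  rw [map_add, ha, show f.app A k = 0 from hk, add_zero]

end Groth.Agent.Curves2.Glue
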